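import Groth.Prelude.Def_CohB1
import Mathlib.CategoryTheory.Preadditive.LeftExact
import Mathlib.CategoryTheory.Abelian.Exact
import Mathlib.Topology.Sheaves.Stalks
/-!
# O-modules on schemes: section-level criteria and exactness of restriction
-/

universe u

open CategoryTheory CategoryTheory.Limits AlgebraicGeometry TopologicalSpace Opposite

noncomputable section

namespace Groth.Agent.QC

variable {X Y : Scheme.{u}} {M N : X.Modules}

/-- The abelian sheaf underlying a module, as a sheaf on the topological space. -/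
def abSheaf (M : X.Modules) : TopCat.Sheaf Ab.{u} X := ⟨M.presheaf, M.isSheaf⟩

/-- Sections restricted. -/
abbrev res (M : X.Modules) {V U : X.Opens} (h : V ≤ U) : Γ(M, U) →+ Γ(M, V) :=
  (M.presheaf.map (homOfLE h).op).hom

/-- Functions restricted. -/
abbrev resO (X : Scheme.{u}) {V U : X.Opens} (h : V ≤ U) : Γ(X, U) →+* Γ(X, V) :=
  (X.presheaf.map (homOfLE h).op).hom

lemma res_res (M : X.Modules) {W V U : X.Opens} (h : W ≤ V) (h' : V ≤ U) (s : Γ(M, U)) :
    res M h (res M h' s) = res M (h.trans h') s := by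
  simp only [res, ← ConcreteCategory.comp_apply, ← Functor.map_comp]
  rfl

lemma res_self (M : X.Modules) {U : X.Opens} (h : U ≤ U) (s : Γ(M, U)) : res M h s = s := by
  have : (homOfLE h).op = 𝟙 (op U) := rfl
  simp [res]

lemma resO_resO {W V U : X.Opens} (h : W ≤ V) (h' : V ≤ U) (r : Γ(X, U)) :
    resO X h (resO X h' r) = resO X (h.trans h') r := by
  simp only [resO, ← ConcreteCategory.comp_apply, ← Functor.map_comp]
  rfl

lemma resO_self {U : X.Opens} (h : U ≤ U) (r : Γ(X, U)) : resO X h r = r := by
  have : (homOfLE h).op = 𝟙 (op U) := rfl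
  simp [resO]

lemma res_smul (M : X.Modules) {V U : X.Opens} (h : V ≤ U) (r : Γ(X, U)) (s : Γ(M, U)) :
    res M h (r • s) = resO X h r • res M h s :=
  Scheme.Modules.map_smul M (homOfLE h) r s

lemma app_res (φ : M ⟶ N) {V U : X.Opens} (h : V ≤ U) (s : Γ(M, U)) :
    res N h (φ.app U s) = φ.app V (res M h s) :=
  (congr($((φ.mapPresheaf).naturality (homOfLE h).op) s)).symm

lemma section_eq_of_locally {U : X.Opens} {s t : Γ(M, U)}
    (h : ∀ x ∈ U, ∃ (W : X.Opens) (hW : W ≤ U), x ∈ W ∧ res M hW s = res M hW t) : s = t :=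
  TopCat.Presheaf.IsSheaf.section_ext M.isSheaf fun x hx ↦
    let ⟨W, hW, hxW, e⟩ := h x hx
    ⟨W, hW, hxW, e⟩

lemma mono_iff_app_injective (φ : M ⟶ N) :
    Mono φ ↔ ∀ U, Function.Injective (φ.app U) := by
  constructor
  · intro h U
    haveI : Mono φ.mapPresheaf := inferInstanceAs (Mono ((Scheme.Modules.toPresheaf X).map φ))
    haveI : Mono (φ.app U) := inferInstanceAs (Mono (φ.mapPresheaf.app (op U)))
    exact (AddCommGrpCat.mono_iff_injective _).mp inferInstance
  · intro h
    haveI : ∀ U : (X.Opens)ᵒᵖ, Mono (((Scheme.Modules.toPresheaf X).map φ).app U) := fun U ↦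
      (AddCommGrpCat.mono_iff_injective (φ.app U.unop)).mpr (h _)
    haveI : Mono ((Scheme.Modules.toPresheaf X).map φ) := NatTrans.mono_of_mono_app _
    exact Functor.mono_of_mono_map (Scheme.Modules.toPresheaf X) inferInstance

lemma app_injective_of_mono (φ : M ⟶ N) [Mono φ] (U : X.Opens) : Function.Injective (φ.app U) :=
  (mono_iff_app_injective φ).mp inferInstance U

/-- Injectivity on a basis of opens gives a monomorphism. -/
lemma mono_of_injective_basis (φ : M ⟶ N) {ι : Type*} {B : ι → X.Opens}
    (hB : Opens.IsBasis (Set.range B)) (h : ∀ i, Function.Injective (φ.app (B i))) : Mono φ := by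
  refine (mono_iff_app_injective φ).mpr fun U s t hst ↦ section_eq_of_locally fun x hx ↦ ?_
  obtain ⟨_, ⟨i, rfl⟩, hxi, hi⟩ := Opens.isBasis_iff_nbhd.mp hB hx
  exact ⟨B i, hi, hxi, h i (by rw [← app_res, ← app_res, hst])⟩

lemma restrict_map_app (f : Y ⟶ X) [IsOpenImmersion f] (φ : M ⟶ N) (V : Y.Opens) (s : Γ(M.restrict f, V)) :
    ((Scheme.Modules.restrictFunctor f).map φ).app V s = φ.app (f ''ᵁ V) s := rfl

instance (f : Y ⟶ X) [IsOpenImmersion f] : (Scheme.Modules.restrictFunctor f).Additive where
  map_add := by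
    intros
    apply Scheme.Modules.hom_ext
    intro U
    rfl

instance (f : Y ⟶ X) [IsOpenImmersion f] :
    (Scheme.Modules.restrictFunctor f).PreservesMonomorphisms where
  preserves φ _ := (mono_iff_app_injective _).mpr fun V ↦
    app_injective_of_mono φ (f ''ᵁ V)

instance (f : Y ⟶ X) [IsOpenImmersion f] :
    PreservesFiniteColimits (Scheme.Modules.restrictFunctor f) := inferInstance

lemma preservesFiniteLimits_of_preservesMono {C D : Type*} [Category C] [Category D] [Abelian C]
    [Abelian D] (F : C ⥤ D) [F.Additive] [PreservesFiniteColimits F]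
    [F.PreservesMonomorphisms] : PreservesFiniteLimits F := by
  refine (((Functor.preservesFiniteLimits_tfae F).out 0 3).mp fun S hS ↦ ?_)
  have := hS.mono_f
  have h : ∀ (S : ShortComplex C), S.ShortExact → (S.map F).Exact ∧ Epi (F.map S.g) :=
    ((Functor.preservesFiniteColimits_tfae F).out 3 0).mp ‹PreservesFiniteColimits F›
  exact ⟨(h S hS).1, inferInstance⟩

/-- Restriction to an open is exact. -/
instance restrict_preservesFiniteLimits (f : Y ⟶ X) [IsOpenImmersion f] :
    PreservesFiniteLimits (Scheme.Modules.restrictFunctor f) :=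
  preservesFiniteLimits_of_preservesMono _

end Groth.Agent.QC
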