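import Groth.Agent.QC.FiniteType
import Mathlib.Topology.Sheaves.SheafCondition.Sites
/-!
# Kernels, cokernels, colimits; morphisms on affine opens
-/

universe u

open CategoryTheory CategoryTheory.Limits AlgebraicGeometry TopologicalSpace Opposite

set_option backward.isDefEq.respectTransparency false

noncomputable section

namespace Groth.Agent.QC

variable {X : Scheme.{u}} {M N : X.Modules}

lemma exists_affine_mem (x : X) : ∃ U : X.Opens, IsAffineOpen U ∧ x ∈ U := by
  obtain ⟨_, ⟨U : X.Opens, hU : IsAffineOpen U, rfl⟩, hx, -⟩ :=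
    X.isBasis_affineOpens.exists_subset_of_mem_open (Set.mem_univ x) isOpen_univ
  exact ⟨U, hU, hx⟩

lemma isQCoh_of_affine (h : ∀ U : X.affineOpens, Coh.IsQCoh (M.restrict U.2.fromSpec)) :
    Coh.IsQCoh M :=
  isQCoh_iff_isLoc.mpr fun U ↦ (isLoc_iff_isQCoh U.2).mpr (h U)

lemma isQCoh_kernel (hM : Coh.IsQCoh M) (hN : Coh.IsQCoh N) (φ : M ⟶ N) :
    Coh.IsQCoh (kernel φ) :=
  isQCoh_of_affine fun U ↦
    isQCoh_of_iso (PreservesKernel.iso (Scheme.Modules.restrictFunctor U.2.fromSpec) φ).symm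
      (isQCoh_kernel_spec (isQCoh_restrict _ hM) (isQCoh_restrict _ hN) _)

lemma isQCoh_cokernel (hM : Coh.IsQCoh M) (hN : Coh.IsQCoh N) (φ : M ⟶ N) :
    Coh.IsQCoh (cokernel φ) :=
  isQCoh_of_affine fun U ↦
    isQCoh_of_iso (PreservesCokernel.iso (Scheme.Modules.restrictFunctor U.2.fromSpec) φ).symm
      (isQCoh_cokernel_spec (isQCoh_restrict _ hM) (isQCoh_restrict _ hN) _)

lemma isQCoh_image (hM : Coh.IsQCoh M) (hN : Coh.IsQCoh N) (φ : M ⟶ N) :
    Coh.IsQCoh (Abelian.image φ) :=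
  isQCoh_kernel hN (isQCoh_cokernel hM hN φ) _

lemma isQCoh_colimit {J : Type u} [SmallCategory J] (F : J ⥤ X.Modules)
    (hF : ∀ j, Coh.IsQCoh (F.obj j)) : Coh.IsQCoh (colimit F) :=
  isQCoh_of_affine fun U ↦
    isQCoh_of_iso (preservesColimitIso (Scheme.Modules.restrictFunctor U.2.fromSpec) F).symm
      (isQCoh_colimit_spec _ fun j ↦ isQCoh_restrict _ (hF j))

lemma isQCoh_unit (X : Scheme.{u}) : Coh.IsQCoh (Coh.structureModule X) :=
  isQCoh_of_affine fun U ↦
    isQCoh_of_iso (Scheme.Modules.restrictUnitIso U.2.fromSpec).symm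
      (isQCoh_of_iso tildeSelf (isQCoh_tilde _))

/-- An epimorphism of quasi-coherent modules is surjective on affine opens. -/
lemma app_surjective_of_epi {U : X.Opens} (hU : IsAffineOpen U) (hM : Coh.IsQCoh M)
    (hN : Coh.IsQCoh N) (φ : M ⟶ N) [Epi φ] : Function.Surjective (φ.app U) := by
  let F := Scheme.Modules.restrictFunctor hU.fromSpec
  haveI : (M.restrict hU.fromSpec).IsQuasicoherent := isQCoh_restrict _ hM
  haveI : (N.restrict hU.fromSpec).IsQuasicoherent := isQCoh_restrict _ hN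
  obtain ⟨A, B, g, eA, eB, h⟩ := exists_tilde_map (F.map φ)
  haveI : Epi (tilde.map g) := by
    rw [← IsIso.eq_comp_inv eB.hom] at h
    rw [h]
    infer_instance
  intro t
  let t' : Γ(N.restrict hU.fromSpec, ⊤) := (topEquiv hU N).symm t
  have hb : Function.Bijective (tilde.toOpen B ⊤) := ConcreteCategory.bijective_of_isIso _
  obtain ⟨b, hb'⟩ := hb.2 (eB.inv.app ⊤ t')
  obtain ⟨a, rfl⟩ := surjective_of_epi_tilde g b
  refine ⟨topEquiv hU M (eA.hom.app ⊤ (tilde.toOpen A ⊤ a)), ?_⟩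
  have h1 : (F.map φ).app ⊤ (eA.hom.app ⊤ (tilde.toOpen A ⊤ a)) = t' := by
    have := congr($(congr($(h).app ⊤)) (tilde.toOpen A ⊤ a))
    refine this.symm.trans ?_
    change eB.hom.app ⊤ ((tilde.map g).app ⊤ (tilde.toOpen A ⊤ a)) = t'
    have h2 : (tilde.map g).app ⊤ (tilde.toOpen A ⊤ a) = eB.inv.app ⊤ t' :=
      (toOpen_map_apply g ⊤ a).trans hb'
    rw [h2]
    change (eB.inv ≫ eB.hom).app ⊤ t' = t'
    rw [eB.inv_hom_id]
    rfl
  have h3 := congrArg (topEquiv hU N) h1
  rw [show topEquiv hU N t' = t from LinearEquiv.apply_symm_apply _ _] at h3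
  rw [← h3]
  exact (app_res φ _ _).symm

/-- Quasi-coherent modules: an isomorphism on sections over an affine open restricts to an
isomorphism there. -/
lemma isIso_restrict_of_bijective {U : X.Opens} (hU : IsAffineOpen U) (hM : Coh.IsQCoh M)
    (hN : Coh.IsQCoh N) (φ : M ⟶ N) (h : Function.Bijective (φ.app U)) :
    IsIso ((Scheme.Modules.restrictFunctor hU.fromSpec).map φ) := by
  let F := Scheme.Modules.restrictFunctor hU.fromSpec
  rw [← isIso_iff_of_reflects_iso _ modulesSpecToSheaf]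
  haveI : (M.restrict hU.fromSpec).IsQuasicoherent := isQCoh_restrict _ hM
  haveI : (N.restrict hU.fromSpec).IsQuasicoherent := isQCoh_restrict _ hN
  refine isLocalizing_of_isIso_app_top ?_
    ((isIso_fromTildeΓ_iff_isLocalizing _).mp inferInstance)
    ((isIso_fromTildeΓ_iff_isLocalizing _).mp inferInstance)
  rw [ConcreteCategory.isIso_iff_bijective]
  change Function.Bijective ((F.map φ).app ⊤)
  have hφ : ∀ s, topEquiv hU N ((F.map φ).app ⊤ s) = φ.app U (topEquiv hU M s) :=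
    fun s ↦ app_res φ _ _
  have : (fun s ↦ (F.map φ).app ⊤ s) =
      (topEquiv hU N).symm ∘ φ.app U ∘ topEquiv hU M := by
    funext s
    simp only [Function.comp_apply, ← hφ, LinearEquiv.symm_apply_apply]
  change Function.Bijective (fun s ↦ (F.map φ).app ⊤ s)
  rw [this]
  exact (topEquiv hU N).symm.bijective.comp (h.comp (topEquiv hU M).bijective)

/-- Being an isomorphism is local. -/
lemma isIso_of_restrict_cover {ι : Type*} {Y : ι → Scheme.{u}} (f : ∀ i, Y i ⟶ X)
    [∀ i, IsOpenImmersion (f i)] (hcov : ∀ x : X, ∃ i, x ∈ Set.range (f i)) (φ : M ⟶ N)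
    (h : ∀ i, IsIso ((Scheme.Modules.restrictFunctor (f i)).map φ)) : IsIso φ := by
  have hb : ∀ (i : ι) (W : X.Opens), W ≤ (f i).opensRange → Function.Bijective (φ.app W) := by
    intro i W hW
    obtain ⟨V, rfl⟩ : ∃ V, f i ''ᵁ V = W := ⟨(f i) ⁻¹ᵁ W, by
      rw [Scheme.Hom.image_preimage_eq_opensRange_inf, inf_eq_right.mpr hW]⟩
    haveI := h i
    exact ConcreteCategory.bijective_of_isIso (((Scheme.Modules.restrictFunctor (f i)).map φ).app V)
  rw [Scheme.Modules.Hom.isIso_iff_isIso_app]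
  intro W
  rw [ConcreteCategory.isIso_iff_bijective]
  choose i hi using hcov
  constructor
  · intro s t hst
    refine section_eq_of_locally fun x hx ↦ ⟨W ⊓ (f (i x)).opensRange, inf_le_left, ⟨hx, hi x⟩, ?_⟩
    apply (hb (i x) _ inf_le_right).1
    rw [← app_res, ← app_res, hst]
  · intro t
    choose s hs using fun x : W ↦ (hb (i x.1) (W ⊓ (f (i x.1)).opensRange) inf_le_right).2
      (res N inf_le_left t)
    obtain ⟨a, ha, -⟩ := TopCat.Sheaf.existsUnique_gluing' (abSheaf M)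
      (fun x : W ↦ W ⊓ (f (i x.1)).opensRange) W (fun x ↦ homOfLE inf_le_left)
      (fun x hx ↦ Opens.mem_iSup.mpr ⟨⟨x, hx⟩, hx, hi x⟩) s (fun x y ↦ by
        have key : ∀ (V : X.Opens) (h1 : V ≤ W ⊓ (f (i x.1)).opensRange)
            (h2 : V ≤ W ⊓ (f (i y.1)).opensRange), res M h1 (s x) = res M h2 (s y) := by
          intro V h1 h2
          apply (hb (i x.1) V (h1.trans inf_le_right)).1
          rw [← app_res, ← app_res, hs, hs, res_res, res_res]
        exact key _ inf_le_left inf_le_right)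
    refine ⟨a, section_eq_of_locally fun x hx ↦
      ⟨W ⊓ (f (i x)).opensRange, inf_le_left, ⟨hx, hi x⟩, ?_⟩⟩
    have h2 : res M inf_le_left a = s ⟨x, hx⟩ := ha ⟨x, hx⟩
    rw [app_res, h2]
    exact hs ⟨x, hx⟩

end Groth.Agent.QC
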