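import Groth.Agent.QC.FiniteType
/-!
# Finite type and finitely presented tilde modules
-/

universe u

open CategoryTheory CategoryTheory.Limits AlgebraicGeometry TopologicalSpace Opposite

set_option backward.isDefEq.respectTransparency false

noncomputable section

namespace Groth.Agent.QC

variable {R : CommRingCat.{u}}

/-- Restrict a global presentation to an open. -/
def presTop {X : Scheme.{u}} {M : X.Modules} (U : X.Opens)
    (P : SheafOfModules.Presentation.{u} (R := X.ringCatSheaf) M) :
    SheafOfModules.Presentation.{u} (M.restrict U.ι) :=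
  haveI : PreservesColimitsOfSize.{u, u} (Scheme.Modules.restrictFunctor U.ι) := inferInstance
  P.map (Scheme.Modules.restrictFunctor U.ι) (Scheme.Modules.restrictUnitIso _).symm

lemma isFT_tilde (M : ModuleCat.{u} R) [Module.Finite R M] : CohB1.IsFT (tilde M) := by
  classical
  obtain ⟨s, hs⟩ := Module.Finite.fg_top (R := R) (M := M)
  let P := presentationTilde M (s : Set M) hs _ (Submodule.span_eq _)
  exact isFT_iff_exists_hasFinGen.mpr fun x ↦
    ⟨⊤, trivial, (presTop ⊤ P).generators, ⟨show Finite (s : Set M) from inferInstance⟩⟩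

lemma isFP_tilde (M : ModuleCat.{u} R) [Module.FinitePresentation R M] : CohB1.IsFP (tilde M) := by
  classical
  obtain ⟨s, hs, t, ht⟩ := Module.FinitePresentation.out (R := R) (M := M)
  let P := presentationTilde M (s : Set M) hs (t : Set _) ht
  exact isFP_iff_exists_hasFinPres.mpr fun x ↦
    ⟨⊤, trivial, presTop ⊤ P,
      { isFiniteType_generators := ⟨show Finite (s : Set M) from inferInstance⟩
        isFiniteType_relations :=
          ⟨show Finite (t : Set ((s : Set M) →₀ R)) from inferInstance⟩ }⟩

/-- Global sections of a finite type quasi-coherent module on `Spec R` are finite over `R`. -/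
lemma finite_top_of_finite_sections (G : (Spec R).Modules)
    [h : Module.Finite Γ(Spec R, ⊤) Γ(G, ⊤)] :
    Module.Finite R ((modulesSpecToSheaf.obj G).presheaf.obj (op ⊤)) := by
  haveI : Module.Finite R Γ(Spec R, ⊤) := by
    refine Module.Finite.of_surjective (Algebra.linearMap R Γ(Spec R, ⊤)) fun y ↦
      ⟨(Scheme.ΓSpecIso R).hom y, ?_⟩
    change (Spec R).presheaf.map (homOfLE le_top).op ((Scheme.ΓSpecIso R).inv ((Scheme.ΓSpecIso R).hom y)) = y
    rw [Iso.hom_inv_id_apply]
    exact congr($((Spec R).presheaf.map_id _) y)
  exact (Module.Finite.trans (R := R) Γ(Spec R, ⊤) Γ(G, ⊤) :)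

end Groth.Agent.QC
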