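import Groth.Agent.QC.PullbackTilde
import Groth.Agent.QC.SpecFT
import Groth.Agent.QC.Closure
import Mathlib.RingTheory.TensorProduct.Finite
/-!
# Pullback preserves quasi-coherence and finite type
-/

universe u

open CategoryTheory CategoryTheory.Limits AlgebraicGeometry TopologicalSpace Opposite

set_option backward.isDefEq.respectTransparency false

noncomputable section

namespace Groth.Agent.QC

variable {X Y : Scheme.{u}} (f : X ⟶ Y) {M : Y.Modules}

/-- A pullback, restricted to an affine over an affine, is the tilde of the base change. -/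
def pullbackAffineIso [hM : M.IsQuasicoherent] {U : Y.Opens} (hU : IsAffineOpen U) {V : X.Opens}
    (hV : IsAffineOpen V) (h : V ≤ f ⁻¹ᵁ U) :
    ((Scheme.Modules.pullback f).obj M).restrict hV.fromSpec ≅
      tilde ((ModuleCat.extendScalars.{u, u, u} (f.appLE U V h).hom).obj
        ((modulesSpecToSheaf.obj (M.restrict hU.fromSpec)).presheaf.obj (op ⊤))) :=
  haveI : (M.restrict hU.fromSpec).IsQuasicoherent := isQCoh_restrict _ hM
  (Scheme.Modules.restrictFunctorIsoPullback hV.fromSpec).app _ ≪≫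
    (Scheme.Modules.pullbackComp hV.fromSpec f).app M ≪≫
    (Scheme.Modules.pullbackCongr (IsAffineOpen.SpecMap_appLE_fromSpec f hU hV h).symm).app M ≪≫
    (Scheme.Modules.pullbackComp (Spec.map (f.appLE U V h)) hU.fromSpec).symm.app M ≪≫
    (Scheme.Modules.pullback (Spec.map (f.appLE U V h))).mapIso
      ((Scheme.Modules.restrictFunctorIsoPullback hU.fromSpec).symm.app M ≪≫
        (isoTildeΓ (M.restrict hU.fromSpec)).symm) ≪≫
    (pullbackTildeIso (f.appLE U V h)).app _

lemma exists_affine_pair (x : X) : ∃ (U : Y.Opens) (_ : IsAffineOpen U) (V : X.Opens)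
    (_ : IsAffineOpen V) (_ : V ≤ f ⁻¹ᵁ U), x ∈ V := by
  obtain ⟨U, hU, hx⟩ := exists_affine_mem (f x)
  obtain ⟨_, ⟨V : X.Opens, hV : IsAffineOpen V, rfl⟩, hxV, hVU⟩ :=
    X.isBasis_affineOpens.exists_subset_of_mem_open (show x ∈ (f ⁻¹ᵁ U : Set X) from hx) (f ⁻¹ᵁ U).2
  exact ⟨U, hU, V, hV, hVU, hxV⟩

/-- Pullback preserves quasi-coherence. -/
lemma isQCoh_pullback (hM : Coh.IsQCoh M) : Coh.IsQCoh ((Scheme.Modules.pullback f).obj M) :=
  isQCoh_of_local fun x ↦ by
    obtain ⟨U, hU, V, hV, h, hx⟩ := exists_affine_pair f x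
    exact ⟨_, hV.fromSpec, inferInstance, hV.range_fromSpec.symm ▸ hx,
      isQCoh_of_iso (pullbackAffineIso f hU hV h (hM := hM)).symm (isQCoh_tilde _)⟩

/-- Pullback preserves coherence (quasi-coherent of finite type). -/
lemma isCoh_pullback (hM : Coh.IsCoh M) : Coh.IsCoh ((Scheme.Modules.pullback f).obj M) := by
  refine ⟨isQCoh_pullback f hM.1, isFT_of_local fun x ↦ ?_⟩
  obtain ⟨U, hU, V, hV, h, hx⟩ := exists_affine_pair f x
  refine ⟨_, hV.fromSpec, inferInstance, hV.range_fromSpec.symm ▸ hx,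
    isFT_of_epi (pullbackAffineIso f hU hV h (hM := hM.1)).inv ?_⟩
  haveI : Module.Finite Γ(Y, U) Γ(M, U) := finite_sections hU hM.2 (hM := hM.1)
  haveI : Module.Finite Γ(Y, U) Γ(M.restrict hU.fromSpec, ⊤) :=
    Module.Finite.equiv (topEquiv hU M).symm
  let G := (modulesSpecToSheaf.obj (M.restrict hU.fromSpec)).presheaf.obj (op ⊤)
  haveI : Module.Finite Γ(Y, U) G := ‹Module.Finite Γ(Y, U) Γ(M.restrict hU.fromSpec, ⊤)›
  haveI : Module.Finite Γ(X, V)
      ((ModuleCat.extendScalars.{u, u, u} (f.appLE U V h).hom).obj G) := by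
    letI := (f.appLE U V h).hom.toAlgebra
    exact (inferInstance : Module.Finite Γ(X, V) (TensorProduct Γ(Y, U) Γ(X, V) G))
  exact isFT_tilde _

end Groth.Agent.QC
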