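import Groth.Agent.QC.Sections
import Mathlib.Algebra.Module.FinitePresentation
/-!
# Finite type and finite presentation over affine opens

For a quasi-coherent `M` and an affine open `U`: finite generation of `M|_U` is the same as
`Γ(M, U)` being a finite `Γ(X, U)`-module; a finitely presented `Γ(M, U)` gives a finite
presentation of `M|_U`.
-/

universe u

open CategoryTheory CategoryTheory.Limits AlgebraicGeometry TopologicalSpace Opposite

set_option backward.isDefEq.respectTransparency false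

noncomputable section

namespace Groth.Agent.QC

variable {X : Scheme.{u}} {M N : X.Modules} {U : X.Opens} (hU : IsAffineOpen U)

/-- Global sections of `M|_{Spec Γ(X, U)}` are the sections over `U`, linearly. -/
def topEquiv (M : X.Modules) : Γ(M.restrict hU.fromSpec, ⊤) ≃ₗ[Γ(X, U)] Γ(M, U) :=
  { secEquiv hU M ⊤ (image_fromSpec_top hU) with
    map_smul' := fun r s ↦ by
      have h := secEquiv_smul hU (M := M) _ (image_fromSpec_top hU) r s
      rwa [resO_self] at h }

/-- From a module on `Spec Γ(X, U)` back to the open subscheme. -/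
def fromSpecIso (M : X.Modules) :
    (Scheme.Modules.restrictFunctor hU.isoSpec.hom).obj (M.restrict hU.fromSpec) ≅ M.restrict U.ι :=
  (Scheme.Modules.restrictFunctorComp hU.isoSpec.hom hU.fromSpec).symm.app M ≪≫
    (Scheme.Modules.restrictFunctorCongr hU.isoSpec_hom_fromSpec).app M

/-- From the open subscheme to `Spec Γ(X, U)`. -/
def toSpecIso (M : X.Modules) :
    (Scheme.Modules.restrictFunctor hU.isoSpec.inv).obj (M.restrict U.ι) ≅ M.restrict hU.fromSpec :=
  (Scheme.Modules.restrictFunctorComp hU.isoSpec.inv U.ι).symm.app M ≪≫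
    (Scheme.Modules.restrictFunctorCongr hU.isoSpec_inv_ι).app M

def genToSpec (σ : SheafOfModules.GeneratingSections.{u} (M.restrict U.ι)) :
    SheafOfModules.GeneratingSections.{u} (M.restrict hU.fromSpec) :=
  haveI : PreservesColimitsOfSize.{u, u} (Scheme.Modules.restrictFunctor hU.isoSpec.inv) :=
    inferInstance
  (σ.map (Scheme.Modules.restrictFunctor hU.isoSpec.inv)
    (Scheme.Modules.restrictUnitIso _).symm).ofEpi (toSpecIso hU M).hom

def presFromSpec (P : SheafOfModules.Presentation.{u} (M.restrict hU.fromSpec)) :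
    SheafOfModules.Presentation.{u} (M.restrict U.ι) :=
  haveI : PreservesColimitsOfSize.{u, u} (Scheme.Modules.restrictFunctor hU.isoSpec.hom) :=
    inferInstance
  (P.map (Scheme.Modules.restrictFunctor hU.isoSpec.hom)
    (Scheme.Modules.restrictUnitIso _).symm).ofIsIso (fromSpecIso hU M).hom

include hU in
/-- Finite generation over an affine open gives finite sections. -/
lemma finite_of_hasFinGen [hM : M.IsQuasicoherent] (h : HasFinGen M U) :
    Module.Finite Γ(X, U) Γ(M, U) := by
  obtain ⟨σ, hσ⟩ := h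
  haveI : (M.restrict hU.fromSpec).IsQuasicoherent := isQCoh_restrict hU.fromSpec hM
  let σ' := (genToSpec hU σ).ofEpi (isoTildeΓ (M.restrict hU.fromSpec)).inv
  haveI : Module.Finite Γ(X, U) Γ(M.restrict hU.fromSpec, ⊤) :=
    finite_of_generatingSections σ' ⟨show Finite σ.I from hσ.finite⟩
  exact Module.Finite.equiv (topEquiv hU M)

include hU in
/-- Finiteness of sections may be checked on a covering by basic opens. -/
lemma finite_of_basicOpen_cover [hM : M.IsQuasicoherent] (F : Finset Γ(X, U))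
    (hF : Ideal.span (F : Set Γ(X, U)) = ⊤)
    (h : ∀ f ∈ F, Module.Finite Γ(X, X.basicOpen f) Γ(M, X.basicOpen f)) :
    Module.Finite Γ(X, U) Γ(M, U) := by
  classical
  have hloc := isLoc_of_isQCoh hU (M := M)
  -- a finite set of global sections generating on each `D(f)`
  have hgen : ∀ f : F, ∃ T : Finset Γ(M, U), Submodule.span Γ(X, X.basicOpen f.1)
      (res M (X.basicOpen_le f.1) '' T) = ⊤ := by
    intro f
    obtain ⟨S, hS⟩ := (h f.1 f.2).fg_top
    choose n s hs using fun t ↦ hloc.exists_extend f.1 t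
    refine ⟨S.image s, eq_top_iff.mpr (hS.ge.trans (Submodule.span_le.mpr fun t ht ↦ ?_))⟩
    have hu : IsUnit (resO X (X.basicOpen_le f.1) f.1) := by
      haveI := hU.isLocalization_basicOpen f.1
      exact IsLocalization.Away.algebraMap_isUnit (S := Γ(X, X.basicOpen f.1)) f.1
    rw [SetLike.mem_coe, ← Submodule.smul_mem_iff_of_isUnit _ (hu.pow (n t)), ← hs]
    exact Submodule.subset_span ⟨s t, Finset.mem_image_of_mem s ht, rfl⟩
  choose T hT using hgen
  refine ⟨⟨F.attach.biUnion T, eq_top_iff.mpr fun m _ ↦ ?_⟩⟩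
  refine Submodule.mem_of_span_eq_top_of_smul_pow_mem _ (F : Set Γ(X, U)) hF _ fun f ↦ ?_
  set P := Submodule.span Γ(X, U) ((F.attach.biUnion T : Finset Γ(M, U)) : Set Γ(M, U))
  set L := X.basicOpen f.1
  suffices ∀ y : Γ(M, L), y ∈ Submodule.span Γ(X, L) (res M (X.basicOpen_le f.1) '' T f) →
      ∃ (n : ℕ) (p : Γ(M, U)), p ∈ P ∧
        res M (X.basicOpen_le f.1) p = (resO X (X.basicOpen_le f.1) f.1) ^ n • y by
    obtain ⟨n, p, hp, hres⟩ := this (res M (X.basicOpen_le f.1) m) (by rw [hT f]; trivial)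
    obtain ⟨k, hk⟩ := hloc.exists_pow_smul_eq_zero f.1 (f.1 ^ n • m - p) (by
      rw [map_sub, res_smul, map_pow, hres, sub_self])
    refine ⟨k + n, ?_⟩
    rw [smul_sub, sub_eq_zero, ← mul_smul, ← pow_add] at hk
    rw [hk]
    exact P.smul_mem _ hp
  intro y hy
  induction hy using Submodule.span_induction with
  | mem y hy =>
    obtain ⟨t, ht, rfl⟩ := hy
    exact ⟨0, t, Submodule.subset_span (Finset.mem_biUnion.mpr ⟨f, Finset.mem_attach _ _, ht⟩),
      by simp⟩
  | zero => exact ⟨0, 0, P.zero_mem, by simp⟩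
  | add a b _ _ ha hb =>
    obtain ⟨m₁, p, hp, hpe⟩ := ha
    obtain ⟨m₂, q, hq, hqe⟩ := hb
    refine ⟨m₁ + m₂, f.1 ^ m₂ • p + f.1 ^ m₁ • q, P.add_mem (P.smul_mem _ hp) (P.smul_mem _ hq), ?_⟩
    rw [map_add, res_smul, res_smul, map_pow, map_pow, hpe, hqe, smul_smul, smul_smul, smul_add,
      ← pow_add, ← pow_add, add_comm m₂ m₁]
  | smul c a _ ha =>
    obtain ⟨m₁, p, hp, hpe⟩ := ha
    haveI := hU.isLocalization_basicOpen f.1
    obtain ⟨k, b, hb⟩ := IsLocalization.Away.surj f.1 c
    have hb' : c * (resO X (X.basicOpen_le f.1) f.1) ^ k = resO X (X.basicOpen_le f.1) b := hb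
    refine ⟨m₁ + k, b • p, P.smul_mem _ hp, ?_⟩
    rw [res_smul, hpe, ← hb', smul_smul, smul_smul, pow_add]
    congr 1
    ring

include hU in
/-- A finite type quasi-coherent module has finite sections over every affine open. -/
lemma finite_sections [hM : M.IsQuasicoherent] (hFT : CohB1.IsFT M) :
    Module.Finite Γ(X, U) Γ(M, U) := by
  classical
  have hpt : ∀ x : U, ∃ f : Γ(X, U), x.1 ∈ X.basicOpen f ∧
      Module.Finite Γ(X, X.basicOpen f) Γ(M, X.basicOpen f) := by
    intro x
    obtain ⟨W, hxW, hW⟩ := isFT_iff_exists_hasFinGen.mp hFT x.1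
    obtain ⟨f, hfW, hxf⟩ := hU.exists_basicOpen_le (⟨x.1, hxW⟩ : W) x.2
    exact ⟨f, hxf, finite_of_hasFinGen (hU.basicOpen f) (hW.mono hfW)⟩
  choose f hxf hfin using hpt
  have hspan : Ideal.span (Set.range f) = ⊤ :=
    hU.self_le_iSup_basicOpen_iff.mp fun x hx ↦ Opens.mem_iSup.mpr ⟨⟨_, ⟨x, hx⟩, rfl⟩, hxf ⟨x, hx⟩⟩
  obtain ⟨F, hFsub, hF⟩ : ∃ F : Finset Γ(X, U), (F : Set Γ(X, U)) ⊆ Set.range f ∧
      Ideal.span (F : Set Γ(X, U)) = ⊤ := by
    obtain ⟨F, hF1, hF2⟩ := Submodule.mem_span_finite_of_mem_span (Ideal.eq_top_iff_one _ |>.mp hspan)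
    exact ⟨F, hF1, (Ideal.eq_top_iff_one _).mpr hF2⟩
  refine finite_of_basicOpen_cover hU F hF fun g hg ↦ ?_
  obtain ⟨x, rfl⟩ := hFsub hg
  exact hfin x

include hU in
/-- A finitely presented section module gives a finite presentation. -/
lemma hasFinPres_of_finitePresentation [hM : M.IsQuasicoherent]
    [h : Module.FinitePresentation Γ(X, U) Γ(M, U)] : HasFinPres M U := by
  classical
  haveI : (M.restrict hU.fromSpec).IsQuasicoherent := isQCoh_restrict hU.fromSpec hM
  let G := (modulesSpecToSheaf.obj (M.restrict hU.fromSpec)).presheaf.obj (op ⊤)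
  haveI : Module.FinitePresentation Γ(X, U) G :=
    Module.FinitePresentation.of_equiv (topEquiv hU M).symm
  obtain ⟨s, hs, t, ht⟩ := Module.FinitePresentation.out (R := Γ(X, U)) (M := G)
  let P := presentationTilde G (s : Set G) hs (t : Set _) ht
  let P' := presFromSpec hU (P.ofIsIso (isoTildeΓ (M.restrict hU.fromSpec)).hom)
  refine ⟨P', ⟨?_⟩, ⟨?_⟩⟩
  · exact show Finite (s : Set G) from inferInstance
  · exact show Finite (t : Set ((s : Set G) →₀ Γ(X, U))) from inferInstance

include hU in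
/-- Finite sections give finitely many generators. -/
lemma hasFinGen_of_finite [hM : M.IsQuasicoherent] [h : Module.Finite Γ(X, U) Γ(M, U)] :
    HasFinGen M U := by
  classical
  haveI : (M.restrict hU.fromSpec).IsQuasicoherent := isQCoh_restrict hU.fromSpec hM
  let G := (modulesSpecToSheaf.obj (M.restrict hU.fromSpec)).presheaf.obj (op ⊤)
  haveI : Module.Finite Γ(X, U) G := Module.Finite.equiv (topEquiv hU M).symm
  obtain ⟨s, hs⟩ := Module.Finite.fg_top (R := Γ(X, U)) (M := G)
  let P := presentationTilde G (s : Set G) hs _ (Submodule.span_eq _)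
  exact ⟨(presFromSpec hU (P.ofIsIso (isoTildeΓ (M.restrict hU.fromSpec)).hom)).generators,
    ⟨show Finite (s : Set G) from inferInstance⟩⟩

/-- Finite type is finiteness of sections over affines. -/
lemma isFT_iff_finite_sections [hM : M.IsQuasicoherent] :
    CohB1.IsFT M ↔ ∀ V : X.affineOpens, Module.Finite Γ(X, V.1) Γ(M, V.1) := by
  refine ⟨fun h V ↦ finite_sections V.2 h, fun h ↦ isFT_iff_exists_hasFinGen.mpr fun x ↦ ?_⟩
  obtain ⟨_, ⟨V : X.Opens, hV : IsAffineOpen V, rfl⟩, hx, -⟩ :=
    X.isBasis_affineOpens.exists_subset_of_mem_open (Set.mem_univ x) isOpen_univ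
  haveI := h ⟨V, hV⟩
  exact ⟨V, hx, hasFinGen_of_finite hV⟩

/-- On a locally Noetherian scheme, quasi-coherent finite type is finite presentation. -/
lemma isFP_of_isQCoh_of_isFT [IsLocallyNoetherian X] [hM : M.IsQuasicoherent] (hFT : CohB1.IsFT M) :
    CohB1.IsFP M := by
  refine isFP_iff_exists_hasFinPres.mpr fun x ↦ ?_
  obtain ⟨_, ⟨V : X.Opens, hV : IsAffineOpen V, rfl⟩, hx, -⟩ :=
    X.isBasis_affineOpens.exists_subset_of_mem_open (Set.mem_univ x) isOpen_univ
  haveI : IsNoetherianRing Γ(X, V) := IsLocallyNoetherian.component_noetherian ⟨V, hV⟩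
  haveI := finite_sections hV hFT
  haveI : Module.FinitePresentation Γ(X, V) Γ(M, V) := Module.finitePresentation_of_finite _ _
  exact ⟨V, hx, hasFinPres_of_finitePresentation hV⟩

end Groth.Agent.QC
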