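import Groth.Agent.QC.Coherent
import Mathlib.Algebra.Category.ModuleCat.Presheaf.Submodule
/-!
# Submodule sheaves given by local conditions on sections
-/

universe u

open CategoryTheory CategoryTheory.Limits AlgebraicGeometry TopologicalSpace Opposite

set_option backward.isDefEq.respectTransparency false

noncomputable section

namespace Groth.Agent.QC

variable {X : Scheme.{u}}

/-- A family of submodules of sections stable under restriction and local. -/
structure Sub (F : X.Modules) where
  obj : ∀ O : X.Opens, Submodule Γ(X, O) Γ(F, O)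
  res_mem : ∀ {O' O : X.Opens} (h : O' ≤ O) {s : Γ(F, O)}, s ∈ obj O → res F h s ∈ obj O'
  local' : ∀ {O : X.Opens} (s : Γ(F, O)),
    (∀ x ∈ O, ∃ (W : X.Opens) (h : W ≤ O), x ∈ W ∧ res F h s ∈ obj W) → s ∈ obj O

namespace Sub

variable {F : X.Modules} (S : Sub F)

@[ext] lemma ext {S T : Sub F} (h : ∀ O, S.obj O = T.obj O) : S = T := by
  cases S; cases T; congr; funext O; exact h O

/-- The underlying presheaf submodule. -/
def toPSub : F.val.Submodule where
  obj O := S.obj O.unop
  map {O O'} f := fun _ hs ↦ S.res_mem f.unop.le hs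

/-- The subsheaf as a module. -/
def toModules : X.Modules where
  val := S.toPSub.toPresheafOfModules
  isSheaf := by
    refine (TopCat.Presheaf.isSheaf_iff_isSheafUniqueGluing
      (S.toPSub.toPresheafOfModules.presheaf : TopCat.Presheaf Ab.{u} X)).mpr fun ι U sf hsf ↦ ?_
    obtain ⟨a, ha, huniq⟩ := TopCat.Sheaf.existsUnique_gluing (abSheaf F) U
      (fun i ↦ (show S.obj (U i) from sf i).1) (fun i j ↦ congrArg Subtype.val (hsf i j))
    refine ⟨⟨a, S.local' a fun x hx ↦ ?_⟩, fun i ↦ Subtype.ext (ha i), fun b hb ↦ Subtype.ext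
      (huniq _ fun i ↦ congrArg Subtype.val (hb i))⟩
    obtain ⟨i, hi⟩ := Opens.mem_iSup.mp hx
    exact ⟨U i, le_iSup U i, hi, (show res F (le_iSup U i) a = _ from ha i) ▸
      (show S.obj (U i) from sf i).2⟩

/-- The inclusion. -/
def ι : S.toModules ⟶ F := ⟨S.toPSub.ι⟩

lemma range_ι_app (O : X.Opens) (s : Γ(F, O)) :
    s ∈ Set.range (S.ι.app O) ↔ s ∈ S.obj O :=
  ⟨fun ⟨a, ha⟩ ↦ ha ▸ (show S.obj O from a).2, fun h ↦ ⟨(show S.obj O from ⟨s, h⟩), rfl⟩⟩

lemma ι_app_injective (O : X.Opens) : Function.Injective (S.ι.app O) :=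
  fun a b h ↦ Subtype.ext (p := fun s ↦ s ∈ S.obj O) h

instance : Mono S.ι := (mono_iff_app_injective _).mpr S.ι_app_injective

end Sub

/-- Factor a morphism through a monomorphism with larger image. -/
lemma exists_lift_of_range {A B F : X.Modules} (i : B ⟶ F) [Mono i] (φ : A ⟶ F)
    (h : ∀ O (a : Γ(A, O)), φ.app O a ∈ Set.range (i.app O)) : ∃ ψ : A ⟶ B, ψ ≫ i = φ := by
  choose g hg using h
  have hi := fun O ↦ app_injective_of_mono i O
  let α : A.presheaf ⟶ B.presheaf :=
    { app := fun O ↦ AddCommGrpCat.ofHom (AddMonoidHom.mk' (g O.unop) fun a b ↦ hi _ (by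
        simp only [hg, map_add]))
      naturality := fun O O' f ↦ by
        ext a
        refine hi _ ?_
        change i.app O'.unop (g O'.unop (res A f.unop.le a)) =
          i.app O'.unop (res B f.unop.le (g O.unop a))
        rw [hg, ← app_res, ← app_res, hg] }
  refine ⟨⟨PresheafOfModules.homMk α fun O r a ↦ hi _ ?_⟩, ?_⟩
  · change i.app O.unop (g O.unop ((show Γ(X, O.unop) from r) • (show Γ(A, O.unop) from a))) =
      i.app O.unop ((show Γ(X, O.unop) from r) • g O.unop a)
    rw [hg, Scheme.Modules.Hom.app_smul, Scheme.Modules.Hom.app_smul, hg]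
  · apply Scheme.Modules.hom_ext
    intro O
    ext a
    exact hg O a

/-- Monomorphisms into the same module with the same image are isomorphic over it. -/
lemma exists_iso_of_range_eq {A B F : X.Modules} (i : A ⟶ F) (j : B ⟶ F) [Mono i] [Mono j]
    (h : ∀ O, Set.range (i.app O) = Set.range (j.app O)) : ∃ e : A ≅ B, e.hom ≫ j = i := by
  obtain ⟨a, ha⟩ := exists_lift_of_range j i fun O s ↦ (h O).le ⟨s, rfl⟩
  obtain ⟨b, hb⟩ := exists_lift_of_range i j fun O s ↦ (h O).ge ⟨s, rfl⟩
  refine ⟨⟨a, b, (cancel_mono i).mp ?_, (cancel_mono j).mp ?_⟩, ha⟩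
  · rw [Category.assoc, hb, ha, Category.id_comp]
  · rw [Category.assoc, ha, hb, Category.id_comp]

end Groth.Agent.QC
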