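import Groth.Agent.QC.Localisation
import Groth.Agent.QC.SubSheaf
/-!
# Subsheaves locally generated by finitely many sections
-/

universe u

open CategoryTheory CategoryTheory.Limits AlgebraicGeometry TopologicalSpace Opposite

set_option backward.isDefEq.respectTransparency false

noncomputable section

namespace Groth.Agent.QC

variable {X : Scheme.{u}} {F : X.Modules}

lemma res_mem_span {O' O : X.Opens} (h : O' ≤ O) {T : Set Γ(F, O)} {s : Γ(F, O)}
    (hs : s ∈ Submodule.span Γ(X, O) T) :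
    res F h s ∈ Submodule.span Γ(X, O') (res F h '' T) := by
  induction hs using Submodule.span_induction with
  | mem t ht => exact Submodule.subset_span ⟨t, ht, rfl⟩
  | zero => simp
  | add a b _ _ ha hb => rw [map_add]; exact Submodule.add_mem _ ha hb
  | smul c a _ ha => rw [res_smul]; exact Submodule.smul_mem _ _ ha

lemma image_res_res {W' W D : X.Opens} (h : W' ≤ W) (h' : W ≤ D) (T : Set Γ(F, D)) :
    res F h '' (res F h' '' T) = res F (h.trans h') '' T := by
  rw [Set.image_image]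
  simp only [res_res]

variable {U : X.Opens}

/-- A combination on a basic open is, up to a power of `f`, the restriction of a combination. -/
lemma exists_pow_smul_mem_span (hU : IsAffineOpen U) (f : Γ(X, U)) {T : Set Γ(F, U)}
    {y : Γ(F, X.basicOpen f)}
    (hy : y ∈ Submodule.span Γ(X, X.basicOpen f) (res F (X.basicOpen_le f) '' T)) :
    ∃ (n : ℕ) (p : Γ(F, U)), p ∈ Submodule.span Γ(X, U) T ∧
      res F (X.basicOpen_le f) p = resO X (X.basicOpen_le f) f ^ n • y := by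
  induction hy using Submodule.span_induction with
  | mem y hy =>
    obtain ⟨t, ht, rfl⟩ := hy
    exact ⟨0, t, Submodule.subset_span ht, by simp⟩
  | zero => exact ⟨0, 0, Submodule.zero_mem _, by simp⟩
  | add a b _ _ ha hb =>
    obtain ⟨m₁, p, hp, hpe⟩ := ha
    obtain ⟨m₂, q, hq, hqe⟩ := hb
    refine ⟨m₁ + m₂, f ^ m₂ • p + f ^ m₁ • q,
      Submodule.add_mem _ (Submodule.smul_mem _ _ hp) (Submodule.smul_mem _ _ hq), ?_⟩
    rw [map_add, res_smul, res_smul, map_pow, map_pow, hpe, hqe, smul_smul, smul_smul, smul_add,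
      ← pow_add, ← pow_add, add_comm m₂ m₁]
  | smul c a _ ha =>
    obtain ⟨m₁, p, hp, hpe⟩ := ha
    haveI := hU.isLocalization_basicOpen f
    obtain ⟨k, b, hb⟩ := IsLocalization.Away.surj f c
    have hb' : c * resO X (X.basicOpen_le f) f ^ k = resO X (X.basicOpen_le f) b := hb
    refine ⟨m₁ + k, b • p, Submodule.smul_mem _ _ hp, ?_⟩
    rw [res_smul, hpe, ← hb', smul_smul, smul_smul, pow_add]
    congr 1
    ring

lemma isUnit_resO_basicOpen (hU : IsAffineOpen U) (f : Γ(X, U)) :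
    IsUnit (resO X (X.basicOpen_le f) f) :=
  haveI := hU.isLocalization_basicOpen f
  IsLocalization.Away.algebraMap_isUnit (S := Γ(X, X.basicOpen f)) f

/-- If `T` spans the sections over an affine open, it spans them over its basic opens. -/
lemma mem_span_basicOpen [hF : F.IsQuasicoherent] (hU : IsAffineOpen U) (f : Γ(X, U))
    {T : Set Γ(F, U)} (hT : Submodule.span Γ(X, U) T = ⊤) (y : Γ(F, X.basicOpen f)) :
    y ∈ Submodule.span Γ(X, X.basicOpen f) (res F (X.basicOpen_le f) '' T) := by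
  obtain ⟨n, s, hs⟩ := (isLoc_of_isQCoh hU (M := F)).exists_extend f y
  rw [← Submodule.smul_mem_iff_of_isUnit _ ((isUnit_resO_basicOpen hU f).pow n), ← hs]
  exact res_mem_span _ (hT ▸ Submodule.mem_top)

/-- Over an affine open, locally in the span is in the span. -/
lemma mem_span_of_locally [hF : F.IsQuasicoherent] (hU : IsAffineOpen U) (T : Set Γ(F, U))
    (s : Γ(F, U))
    (h : ∀ x ∈ U, ∃ (W : X.Opens) (hW : W ≤ U), x ∈ W ∧
      res F hW s ∈ Submodule.span Γ(X, W) (res F hW '' T)) :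
    s ∈ Submodule.span Γ(X, U) T := by
  have hpt : ∀ x : U, ∃ f : Γ(X, U), x.1 ∈ X.basicOpen f ∧
      ∃ n : ℕ, f ^ n • s ∈ Submodule.span Γ(X, U) T := by
    intro x
    obtain ⟨W, hW, hxW, hs⟩ := h x.1 x.2
    obtain ⟨f, hfW, hxf⟩ := hU.exists_basicOpen_le (⟨x.1, hxW⟩ : W) x.2
    have h2 := res_mem_span (F := F) hfW hs
    rw [image_res_res, res_res] at h2
    obtain ⟨n, p, hp, hpe⟩ := exists_pow_smul_mem_span hU f h2
    obtain ⟨k, hk⟩ := (isLoc_of_isQCoh hU (M := F)).exists_pow_smul_eq_zero f (f ^ n • s - p)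
      (by rw [map_sub, res_smul, map_pow, hpe, sub_self])
    rw [smul_sub, sub_eq_zero, smul_smul, ← pow_add] at hk
    exact ⟨f, hxf, k + n, hk ▸ Submodule.smul_mem _ _ hp⟩
  choose f hxf n hn using hpt
  have hspan : Ideal.span (Set.range f) = ⊤ :=
    hU.self_le_iSup_basicOpen_iff.mp fun x hx ↦
      Opens.mem_iSup.mpr ⟨⟨_, ⟨x, hx⟩, rfl⟩, hxf ⟨x, hx⟩⟩
  refine Submodule.mem_of_span_eq_top_of_smul_pow_mem _ (Set.range f) hspan _ ?_
  rintro ⟨_, x, rfl⟩
  exact ⟨n x, hn x⟩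

/-- The subsheaf generated by `T` over `D` (no condition outside `D`). -/
def genSub {D : X.Opens} (T : Set Γ(F, D)) : Sub F where
  obj O :=
    { carrier := {s | ∀ x ∈ O, x ∈ D → ∃ (W : X.Opens) (h : W ≤ O) (h' : W ≤ D), x ∈ W ∧
        res F h s ∈ Submodule.span Γ(X, W) (res F h' '' T)}
      zero_mem' := fun x hx hxD ↦ ⟨O ⊓ D, inf_le_left, inf_le_right, ⟨hx, hxD⟩, by simp⟩
      add_mem' := fun {a b} ha hb x hx hxD ↦ by
        obtain ⟨W, h, h', hxW, ha⟩ := ha x hx hxD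
        obtain ⟨V, g, g', hxV, hb⟩ := hb x hx hxD
        refine ⟨W ⊓ V, inf_le_left.trans h, inf_le_left.trans h', ⟨hxW, hxV⟩, ?_⟩
        have ha' := res_mem_span (F := F) (inf_le_left : W ⊓ V ≤ W) ha
        have hb' := res_mem_span (F := F) (inf_le_right : W ⊓ V ≤ V) hb
        rw [image_res_res, res_res] at ha' hb'
        rw [map_add]
        exact Submodule.add_mem _ ha' hb'
      smul_mem' := fun c a ha x hx hxD ↦ by
        obtain ⟨W, h, h', hxW, ha⟩ := ha x hx hxD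
        exact ⟨W, h, h', hxW, by rw [res_smul]; exact Submodule.smul_mem _ _ ha⟩ }
  res_mem := fun {O' O} hO {s} hs x hx hxD ↦ by
    obtain ⟨W, h, h', hxW, hs⟩ := hs x (hO hx) hxD
    refine ⟨W ⊓ O', inf_le_right, inf_le_left.trans h', ⟨hxW, hx⟩, ?_⟩
    have hs' := res_mem_span (F := F) (inf_le_left : W ⊓ O' ≤ W) hs
    rw [image_res_res, res_res] at hs'
    rw [res_res]
    exact hs'
  local' := fun {O} s hs x hx hxD ↦ by
    obtain ⟨W, h, hxW, hs⟩ := hs x hx
    obtain ⟨W', g, g', hxW', hs'⟩ := hs x hxW hxD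
    rw [res_res] at hs'
    exact ⟨W', g.trans h, g', hxW', hs'⟩

lemma mem_genSub_of_mem {D : X.Opens} {T : Set Γ(F, D)} {t : Γ(F, D)} (ht : t ∈ T) :
    t ∈ (genSub T).obj D :=
  fun _ hx _ ↦ ⟨D, le_rfl, le_rfl, hx, Submodule.subset_span ⟨t, ht, rfl⟩⟩

/-- Over affine opens inside `D`, `genSub T` is the span of `T`. -/
lemma mem_genSub_iff [hF : F.IsQuasicoherent] {D E : X.Opens} (hE : IsAffineOpen E) (hED : E ≤ D)
    (T : Set Γ(F, D)) (s : Γ(F, E)) :
    s ∈ (genSub T).obj E ↔ s ∈ Submodule.span Γ(X, E) (res F hED '' T) := by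
  refine ⟨fun h ↦ mem_span_of_locally hE _ s fun x hx ↦ ?_, fun h x hx _ ↦
    ⟨E, le_rfl, hED, hx, by rw [res_self]; exact h⟩⟩
  obtain ⟨W, g, g', hxW, hs⟩ := h x hx (hED hx)
  exact ⟨W, g, hxW, by rw [image_res_res]; exact hs⟩

/-- `S` is generated by `T` over `D`. -/
structure GenOn (S : Sub F) (D : X.Opens) (T : Set Γ(F, D)) : Prop where
  mem : ∀ t ∈ T, t ∈ S.obj D
  le : ∀ O ≤ D, S.obj O ≤ (genSub T).obj O

lemma GenOn.obj_eq {S : Sub F} {D : X.Opens} {T : Set Γ(F, D)} (h : GenOn S D T) {O : X.Opens}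
    (hO : O ≤ D) : S.obj O = (genSub T).obj O := by
  refine le_antisymm (h.le O hO) fun s hs ↦ S.local' s fun x hx ↦ ?_
  obtain ⟨W, g, g', hxW, hs⟩ := hs x hx (hO hx)
  refine ⟨W, g, hxW, (Submodule.span_le.mpr ?_) hs⟩
  rintro _ ⟨t, ht, rfl⟩
  exact S.res_mem g' (h.mem t ht)

lemma GenOn.mono {S : Sub F} {D E : X.Opens} {T : Set Γ(F, D)} (h : GenOn S D T) (hED : E ≤ D) :
    GenOn S E (res F hED '' T) where
  mem := by rintro _ ⟨t, ht, rfl⟩; exact S.res_mem _ (h.mem t ht)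
  le O hO s hs x hx _ := by
    obtain ⟨W, g, g', hxW, hs⟩ := h.le O (hO.trans hED) hs x hx (hED (hO hx))
    exact ⟨W, g, g.trans hO, hxW, by rw [image_res_res]; exact hs⟩

/-- `S` is locally finitely generated over `W`. -/
def LocFinGen (S : Sub F) (W : X.Opens) : Prop :=
  ∀ x ∈ W, ∃ D : X.Opens, IsAffineOpen D ∧ x ∈ D ∧ D ≤ W ∧ ∃ T : Finset Γ(F, D), GenOn S D T

/-- Extension step: finitely many sections over an affine open restricting to generators. -/
lemma exists_finset_genOn [hF : F.IsQuasicoherent] (S : Sub F) {W V O : X.Opens}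
    (hS : LocFinGen S W) (hV : IsAffineOpen V) (hOV : O ≤ V) (hOW : O ≤ W)
    (hO : IsCompact (O : Set X)) :
    ∃ T : Finset Γ(F, V), GenOn S O (res F hOV '' T) := by
  classical
  have hpt : ∀ x : O, ∃ f : Γ(X, V), x.1 ∈ X.basicOpen f ∧ X.basicOpen f ≤ O ∧
      ∃ T : Finset Γ(F, X.basicOpen f), GenOn S (X.basicOpen f) T := by
    intro x
    obtain ⟨D, -, hxD, -, T, hT⟩ := hS x.1 (hOW x.2)
    obtain ⟨f, hf, hxf⟩ := hV.exists_basicOpen_le (⟨x.1, hxD, x.2⟩ : (D ⊓ O : X.Opens)) (hOV x.2)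
    exact ⟨f, hxf, hf.trans inf_le_right, T.image (res F (hf.trans inf_le_left)),
      by rw [Finset.coe_image]; exact hT.mono _⟩
  choose f hxf hfO T hT using hpt
  obtain ⟨s, hs⟩ := hO.elim_finite_subcover (fun x : O ↦ (X.basicOpen (f x) : Set X))
    (fun x ↦ (X.basicOpen (f x)).2) fun x hx ↦ Set.mem_iUnion.mpr ⟨⟨x, hx⟩, hxf ⟨x, hx⟩⟩
  have hloc := isLoc_of_isQCoh hV (M := F)
  choose n m hm using fun (i : O) (t : Γ(F, X.basicOpen (f i))) ↦ hloc.exists_extend (f i) t
  have hK : ∀ (i : O) (t : Γ(F, X.basicOpen (f i))), t ∈ T i →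
      ∃ K : ℕ, res F hOV (f i ^ K • m i t) ∈ S.obj O := by
    intro i t ht
    have hk : ∀ k : O, ∃ K : ℕ,
        res F ((hfO k).trans hOV) (f i ^ K • m i t) ∈ S.obj (X.basicOpen (f k)) := by
      intro k
      set Dk := X.basicOpen (f k)
      set hDk : Dk ≤ V := X.basicOpen_le (f k)
      have hDka : IsAffineOpen Dk := hV.basicOpen (f k)
      set g := resO X hDk (f i)
      have hgE : X.basicOpen g ≤ X.basicOpen (f i) := basicOpen_resO_le hDk (f i)
      have hy : res F (X.basicOpen_le g) (res F hDk (m i t)) ∈ S.obj (X.basicOpen g) := by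
        rw [res_res, ← res_res F hgE (X.basicOpen_le (f i)), hm, res_smul]
        exact Submodule.smul_mem _ _ (S.res_mem _ ((hT i).mem t ht))
      rw [(hT k).obj_eq (X.basicOpen_le g),
        mem_genSub_iff (hDka.basicOpen g) (X.basicOpen_le g)] at hy
      obtain ⟨a, p, hp, hpe⟩ := exists_pow_smul_mem_span hDka g hy
      obtain ⟨b, hb⟩ := (isLoc_of_isQCoh hDka (M := F)).exists_pow_smul_eq_zero g
        (g ^ a • res F hDk (m i t) - p) (by rw [map_sub, res_smul, map_pow, hpe, sub_self])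
      rw [smul_sub, sub_eq_zero, smul_smul, ← pow_add] at hb
      refine ⟨b + a, ?_⟩
      rw [res_smul, map_pow]
      change g ^ (b + a) • res F hDk (m i t) ∈ _
      rw [hb]
      refine Submodule.smul_mem _ _ (Submodule.span_le.mpr ?_ hp)
      exact fun u hu ↦ (hT k).mem u hu
    choose K hK using hk
    refine ⟨s.sup K, S.local' _ fun x hx ↦ ?_⟩
    obtain ⟨k, hks, hxk⟩ := Set.mem_iUnion₂.mp (hs hx)
    refine ⟨_, hfO k, hxk, ?_⟩
    obtain ⟨d, hd⟩ := Nat.exists_eq_add_of_le (Finset.le_sup (f := K) hks)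
    rw [res_res, hd, add_comm, pow_add, mul_smul, res_smul]
    exact Submodule.smul_mem _ _ (hK k)
  choose K hK using hK
  refine ⟨s.biUnion fun i ↦ (T i).attach.image fun t ↦ f i ^ K i t.1 t.2 • m i t.1, ?_, ?_⟩
  · rintro _ ⟨u, hu, rfl⟩
    simp only [Finset.mem_coe, Finset.mem_biUnion, Finset.mem_image] at hu
    obtain ⟨i, -, t, -, rfl⟩ := hu
    exact hK i t.1 t.2
  · intro O' hO' u hu x hx _
    obtain ⟨i, his, hxi⟩ := Set.mem_iUnion₂.mp (hs (hO' hx))
    have hu' := (hT i).le (O' ⊓ X.basicOpen (f i)) inf_le_right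
      (S.res_mem (inf_le_left : O' ⊓ X.basicOpen (f i) ≤ O') hu) x ⟨hx, hxi⟩ hxi
    obtain ⟨A, hA, hA', hxA, hspan⟩ := hu'
    refine ⟨A, hA.trans inf_le_left, (hA.trans inf_le_left).trans hO', hxA, ?_⟩
    rw [res_res] at hspan
    refine Submodule.span_le.mpr ?_ hspan
    rintro _ ⟨t, ht, rfl⟩
    rw [image_res_res, SetLike.mem_coe]
    have hu1 : IsUnit (resO X (hA'.trans (X.basicOpen_le (f i))) (f i)) := by
      rw [← resO_resO hA' (X.basicOpen_le (f i))]
      exact (isUnit_resO_basicOpen hV (f i)).map _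
    rw [← Submodule.smul_mem_iff_of_isUnit _ (hu1.pow (K i t ht + n i t))]
    refine Submodule.subset_span ⟨f i ^ K i t ht • m i t, ?_, ?_⟩
    · exact Finset.mem_biUnion.mpr ⟨i, his, Finset.mem_image.mpr ⟨⟨t, ht⟩, Finset.mem_attach _ _, rfl⟩⟩
    · rw [res_smul, map_pow, ← res_res F hA' (X.basicOpen_le (f i)), hm, res_smul, map_pow,
        resO_resO, smul_smul, pow_add]

end Groth.Agent.QC
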