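import Groth.Agent.QC.Closure
import Mathlib.RingTheory.Support
/-!
# Support
-/

universe u

open CategoryTheory CategoryTheory.Limits AlgebraicGeometry TopologicalSpace Opposite

set_option backward.isDefEq.respectTransparency false

noncomputable section

namespace Groth.Agent.QC

variable {X : Scheme.{u}} {M N : X.Modules}

lemma germ_res (M : X.Modules) {V U : X.Opens} (h : V ≤ U) (x : X) (hx : x ∈ V) (s : Γ(M, U)) :
    M.presheaf.germ V x hx (res M h s) = M.presheaf.germ U x (h hx) s :=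
  TopCat.Presheaf.germ_res_apply M.presheaf (homOfLE h) x hx s

lemma notMem_support_iff (x : X) :
    x ∉ CohB1.support M ↔ ∀ (U : X.Opens) (hx : x ∈ U) (s : Γ(M, U)),
      ∃ (W : X.Opens) (hW : W ≤ U), x ∈ W ∧ res M hW s = 0 := by
  simp only [CohB1.support, Set.mem_setOf_eq, not_not]
  constructor
  · intro h U hx s
    have h0 : M.presheaf.germ U x hx s = M.presheaf.germ U x hx 0 := h.elim _ _
    obtain ⟨W, hxW, i₁, i₂, e⟩ := TopCat.Presheaf.germ_eq M.presheaf x hx hx s 0 h0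
    exact ⟨W, i₁.le, hxW, e.trans (map_zero _)⟩
  · intro h
    refine subsingleton_of_forall_eq 0 fun σ ↦ ?_
    obtain ⟨U, hx, s, rfl⟩ := TopCat.Presheaf.germ_exist M.presheaf σ
    obtain ⟨W, hW, hxW, e⟩ := h U hx s
    rw [← germ_res M hW x hxW, e, map_zero]

/-- The support of a quasi-coherent module on an affine open. -/
lemma notMem_support_iff_affine [hM : M.IsQuasicoherent] {U : X.Opens} (hU : IsAffineOpen U)
    {x : X} (hx : x ∈ U) :
    x ∉ CohB1.support M ↔ ∀ m : Γ(M, U), ∃ f : Γ(X, U), x ∈ X.basicOpen f ∧ f • m = 0 := by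
  have hloc := isLoc_of_isQCoh hU (M := M)
  rw [notMem_support_iff]
  constructor
  · intro h m
    obtain ⟨W, hW, hxW, e⟩ := h U hx m
    obtain ⟨f, hfW, hxf⟩ := hU.exists_basicOpen_le (⟨x, hxW⟩ : W) hx
    obtain ⟨n, hn⟩ := hloc.exists_pow_smul_eq_zero f m (by rw [← res_res M hfW hW, e, map_zero])
    refine ⟨f ^ (n + 1), ?_, by rw [pow_succ', mul_smul, hn, smul_zero]⟩
    rw [X.basicOpen_pow f n.succ_pos]
    exact hxf
  · intro h V hxV s
    obtain ⟨f, hfV, hxf⟩ := hU.exists_basicOpen_le (⟨x, hxV⟩ : V) hx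
    obtain ⟨n, m, hm⟩ := hloc.exists_extend f (res M hfV s)
    obtain ⟨g, hxg, hg⟩ := h m
    refine ⟨X.basicOpen f ⊓ X.basicOpen g, inf_le_left.trans hfV, ⟨hxf, hxg⟩, ?_⟩
    set W := X.basicOpen f ⊓ X.basicOpen g
    have hu : ∀ (a : Γ(X, U)), W ≤ X.basicOpen a → IsUnit (resO X (inf_le_left.trans (X.basicOpen_le f) : W ≤ U) a) := by
      intro a ha
      rw [← resO_resO ha (X.basicOpen_le a)]
      haveI := hU.isLocalization_basicOpen a
      exact (IsLocalization.Away.algebraMap_isUnit (S := Γ(X, X.basicOpen a)) a).map (resO X ha)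
    have e1 : res M (inf_le_left.trans (X.basicOpen_le f) : W ≤ U) m = 0 := by
      have h1 := congr(res M (inf_le_left.trans (X.basicOpen_le f) : W ≤ U) $hg)
      rw [res_smul, map_zero] at h1
      exact (hu g inf_le_right).smul_eq_zero.mp h1
    have h2 := congr(res M (inf_le_left : W ≤ X.basicOpen f) $hm)
    rw [res_res, e1, res_smul, map_pow, resO_resO, res_res] at h2
    exact ((hu f inf_le_left).pow n).smul_eq_zero.mp h2.symm

/-- The support of a quasi-coherent module is the support of its sections. -/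
lemma mem_moduleSupport_iff [hM : M.IsQuasicoherent] {U : X.Opens} (hU : IsAffineOpen U) {x : X}
    (hx : x ∈ U) :
    hU.primeIdealOf ⟨x, hx⟩ ∈ Module.support Γ(X, U) Γ(M, U) ↔ x ∈ CohB1.support M := by
  rw [← not_iff_not, Module.notMem_support_iff', notMem_support_iff_affine hU hx]
  have key : ∀ f : Γ(X, U), f ∉ (hU.primeIdealOf ⟨x, hx⟩).asIdeal ↔ x ∈ X.basicOpen f := by
    intro f
    rw [← hU.fromSpec_image_basicOpen f]
    constructor
    · intro h
      exact ⟨hU.primeIdealOf ⟨x, hx⟩, h, hU.fromSpec_primeIdealOf ⟨x, hx⟩⟩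
    · rintro ⟨p, hp, he⟩
      rw [← hU.fromSpec.isOpenEmbedding.injective
        (he.trans (hU.fromSpec_primeIdealOf ⟨x, hx⟩).symm)]
      exact hp
  simp only [key]

lemma stableUnderSpecialization_support [hM : M.IsQuasicoherent] :
    StableUnderSpecialization (CohB1.support M) := by
  intro x y hxy hx
  obtain ⟨U, hU, hy⟩ := exists_affine_mem y
  have hxU : x ∈ U := hxy.mem_open U.2 hy
  by_contra h
  refine (notMem_support_iff_affine hU hxU).mpr (fun m ↦ ?_) hx
  obtain ⟨f, hyf, hf⟩ := (notMem_support_iff_affine hU hy).mp h m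
  exact ⟨f, hxy.mem_open (X.basicOpen f).2 hyf, hf⟩

/-- If a module is generated by sections vanishing on `V`, it vanishes on `V`. -/
lemma eq_zero_of_generators (P : X.Modules) (σ : SheafOfModules.GeneratingSections.{u} P)
    (V : X.Opens) (h : ∀ i, res P le_top ((σ.s i).val (op ⊤)) = (0 : Γ(P, V)))
    (T : X.Opens) (hT : T ≤ V) (t : Γ(P, T)) : t = 0 := by
  have key : ∀ (A : X.Opens) (i : σ.I),
      ((Scheme.Modules.restrictAdjunction V.ι).unit.app P).app A ((σ.s i).val (op A)) = 0 := by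
    intro A i
    have hs : res P le_top ((σ.s i).val (op ⊤)) = (σ.s i).val (op A) :=
      (σ.s i).property (homOfLE (le_top : A ≤ ⊤)).op
    have hle : V.ι ''ᵁ (V.ι ⁻¹ᵁ A) ≤ V := by
      rintro z ⟨w, -, rfl⟩
      exact w.2
    rw [Scheme.Modules.restrictAdjunction_unit_app_app]
    change res P (V.ι.image_preimage_le A) ((σ.s i).val (op A)) = 0
    rw [← hs, res_res, ← res_res P hle le_top, h i, map_zero]
  have hψ : (Scheme.Modules.restrictAdjunction V.ι).unit.app P = 0 := by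
    haveI : Epi σ.π := σ.epi
    refine (cancel_epi σ.π).mp ?_
    refine Eq.trans ?_ comp_zero.symm
    refine (SheafOfModules.freeHomEquiv _).injective (funext fun i ↦ ?_)
    rw [SheafOfModules.freeHomEquiv_comp_apply, Equiv.apply_symm_apply]
    ext A
    exact key A.unop i
  have hTV : T ≤ V.ι ''ᵁ (V.ι ⁻¹ᵁ T) := by
    rw [Scheme.Hom.image_preimage_eq_opensRange_inf, Scheme.Opens.opensRange_ι]
    exact le_inf hT le_rfl
  have h1 : ((Scheme.Modules.restrictAdjunction V.ι).unit.app P).app T t = 0 := by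
    rw [hψ]
    rfl
  rw [Scheme.Modules.restrictAdjunction_unit_app_app] at h1
  have h2 := congrArg (res P hTV) (show res P (V.ι.image_preimage_le T) t = 0 from h1)
  rwa [res_res, res_self, map_zero] at h2

/-- The support of a finite type module is closed. -/
lemma isClosed_support (hM : CohB1.IsFT M) : IsClosed (CohB1.support M) := by
  rw [← isOpen_compl_iff, isOpen_iff_forall_mem_open]
  intro x hx
  obtain ⟨U, hxU, σ, hσ⟩ := isFT_iff_exists_hasFinGen.mp hM x
  haveI := hσ.finite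
  have hx' := (notMem_support_iff x).mp hx
  choose W hW hxW hW0 using fun i : σ.I ↦
    hx' (U.ι ''ᵁ ⊤) (by simpa using hxU) ((σ.s i).val (op ⊤))
  obtain ⟨O, hxO, hOU, hOW⟩ : ∃ O : X.Opens, x ∈ O ∧ O ≤ U ∧ ∀ i, O ≤ W i := by
    refine ⟨U ⊓ ⟨⋂ i, (W i : Set X), isOpen_iInter_of_finite fun i ↦ (W i).2⟩,
      ⟨hxU, Set.mem_iInter.mpr hxW⟩, inf_le_left, fun i ↦ ?_⟩
    exact fun y hy ↦ Set.mem_iInter.mp hy.2 i
  refine ⟨O, fun y hy ↦ ?_, O.2, hxO⟩
  refine (notMem_support_iff y).mpr fun A hyA s ↦ ⟨A ⊓ O, inf_le_left, ⟨hyA, hy⟩, ?_⟩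
  have hV : U.ι ''ᵁ (U.ι ⁻¹ᵁ O) = O := by
    rw [Scheme.Hom.image_preimage_eq_opensRange_inf, Scheme.Opens.opensRange_ι,
      inf_eq_right.mpr hOU]
  have hT : U.ι ''ᵁ (U.ι ⁻¹ᵁ (A ⊓ O)) = A ⊓ O := by
    rw [Scheme.Hom.image_preimage_eq_opensRange_inf, Scheme.Opens.opensRange_ι,
      inf_eq_right.mpr (inf_le_right.trans hOU)]
  have hz := eq_zero_of_generators (M.restrict U.ι) σ (U.ι ⁻¹ᵁ O) ?_ (U.ι ⁻¹ᵁ (A ⊓ O))
    (fun z hz ↦ hz.2) (res M hT.le (res M inf_le_left s))
  · have h2 := congrArg (res M hT.ge) (show res M hT.le (res M inf_le_left s) = 0 from hz)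
    rwa [res_res, res_self, map_zero] at h2
  · intro i
    change res M (Scheme.Hom.image_mono U.ι le_top) ((σ.s i).val (op ⊤)) = 0
    rw [← res_res M (hV.le.trans (hOW i)) (hW i), hW0, map_zero]

end Groth.Agent.QC
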