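import Groth.Agent.QC.Localisation
import Groth.Agent.QC.Closure
import Groth.Agent.QC.SubSheaf
import Groth.Prelude.Def_ClSub2
/-!
# The module of an ideal sheaf
-/

universe u

open CategoryTheory CategoryTheory.Limits AlgebraicGeometry TopologicalSpace Opposite

set_option backward.isDefEq.respectTransparency false

noncomputable section

namespace Groth.Agent.QC

variable {X : Scheme.{u}}

/-- The sections killed by a morphism, as a subsheaf. -/
def kerSub {M N : X.Modules} (φ : M ⟶ N) : Sub M where
  obj O := LinearMap.ker (appₗ φ O)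
  res_mem := fun h s hs ↦ by
    rw [LinearMap.mem_ker, appₗ_apply] at hs ⊢
    rw [← app_res, hs, map_zero]
  local' := fun {O} s hs ↦ by
    rw [LinearMap.mem_ker, appₗ_apply]
    refine section_eq_of_locally fun x hx ↦ ?_
    obtain ⟨W, hW, hxW, hs⟩ := hs x hx
    rw [LinearMap.mem_ker, appₗ_apply] at hs
    exact ⟨W, hW, hxW, by rw [app_res, hs, map_zero]⟩

/-- Sections of a kernel. -/
lemma mem_range_kernel_app {M N : X.Modules} (φ : M ⟶ N) (W : X.Opens) (t : Γ(M, W)) :
    t ∈ Set.range ((kernel.ι φ).app W) ↔ φ.app W t = 0 := by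
  constructor
  · rintro ⟨a, rfl⟩
    change (kernel.ι φ ≫ φ).app W a = 0
    rw [kernel.condition]
    rfl
  · intro ht
    have h0 : (kerSub φ).ι ≫ φ = 0 := by
      apply Scheme.Modules.hom_ext
      intro O
      ext a
      exact (show (kerSub φ).ι.app O a ∈ LinearMap.ker (appₗ φ O) from
        ((kerSub φ).range_ι_app _ _).mp ⟨a, rfl⟩)
    obtain ⟨a, ha⟩ := ((kerSub φ).range_ι_app W t).mpr (LinearMap.mem_ker.mpr ht)
    refine ⟨(kernel.lift φ _ h0).app W a, ?_⟩
    change (kernel.lift φ _ h0 ≫ kernel.ι φ).app W a = t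
    rw [kernel.lift_ι, ha]

lemma unitToPush_app {Z : Scheme.{u}} (f : Z ⟶ X) (W : X.Opens) (t : Γ(X, W)) :
    (ClSub.unitToPush f).app W t = f.app W t := rfl

/-- Sections of the module of an ideal sheaf. -/
lemma mem_range_idealModι (I : X.IdealSheafData) (W : X.Opens) (t : Γ(X, W)) :
    t ∈ Set.range ((ClSub.idealModι I).app W) ↔ I.subschemeι.app W t = 0 :=
  mem_range_kernel_app (ClSub.toSubscheme I) W t

lemma mem_range_idealModι_affine (I : X.IdealSheafData) (W : X.affineOpens) (t : Γ(X, W.1)) :
    t ∈ Set.range ((ClSub.idealModι I).app W.1) ↔ t ∈ I.ideal W := by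
  rw [mem_range_idealModι, ← I.ker_subschemeι_app, RingHom.mem_ker]


/-- The module of an ideal sheaf is quasi-coherent. -/
lemma isQCoh_idealMod (I : X.IdealSheafData) : Coh.IsQCoh (ClSub.idealMod I) := by
  haveI : (Coh.structureModule I.subscheme).IsQuasicoherent := isQCoh_unit _
  exact isQCoh_kernel (isQCoh_unit X) (isQCoh_pushforward I.subschemeι) _

instance (I : X.IdealSheafData) : Mono (ClSub.idealModι I) :=
  inferInstanceAs (Mono (kernel.ι _))

end Groth.Agent.QC
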