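import Groth.Agent.QC.FiniteType
import Mathlib.AlgebraicGeometry.Morphisms.QuasiSeparated
import Mathlib.AlgebraicGeometry.Morphisms.Finite
/-!
# Localisation of sections over quasi-compact quasi-separated opens; direct images
-/

universe u

open CategoryTheory CategoryTheory.Limits AlgebraicGeometry TopologicalSpace Opposite

set_option backward.isDefEq.respectTransparency false

noncomputable section

namespace Groth.Agent.QC

variable {X Y : Scheme.{u}} {M : X.Modules}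

lemma exists_finite_affine_cover {W : X.Opens} (hW : IsCompact (W : Set X)) :
    ∃ (ι : Type u) (_ : Fintype ι) (U : ι → X.Opens), (∀ i, IsAffineOpen (U i)) ∧
      (∀ i, U i ≤ W) ∧ ∀ x ∈ W, ∃ i, x ∈ U i := by
  classical
  obtain ⟨s, hfin, e⟩ := isCompact_iff_finite_and_eq_biUnion_affineOpens.mp hW
  subst e
  haveI := hfin.fintype
  refine ⟨s, inferInstance, fun i ↦ i.1.1, fun i ↦ i.1.2,
    fun i ↦ le_iSup₂_of_le (f := fun (V : X.affineOpens) (_ : V ∈ s) ↦ V.1) i.1 i.2 le_rfl, fun x hx ↦ ?_⟩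
  obtain ⟨V, hV, hxV⟩ : ∃ V, ∃ _ : V ∈ s, x ∈ (V : X.affineOpens).1 := by
    simpa [Opens.mem_iSup] using hx
  exact ⟨⟨V, hV⟩, hxV⟩

lemma basicOpen_resO_le {U W : X.Opens} (h : U ≤ W) (f : Γ(X, W)) :
    X.basicOpen (resO X h f) ≤ X.basicOpen f :=
  (X.basicOpen_res f (homOfLE h).op).trans_le inf_le_right

variable [hM : M.IsQuasicoherent]

/-- On a quasi-compact open, a section vanishing on `D(f)` is killed by a power of `f`. -/
lemma exists_pow_smul_eq_zero_of_isCompact {W : X.Opens} (hW : IsCompact (W : Set X))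
    (f : Γ(X, W)) (s : Γ(M, W)) (hs : res M (X.basicOpen_le f) s = 0) :
    ∃ n : ℕ, f ^ n • s = 0 := by
  obtain ⟨ι, hι, U, hU, hUW, hcov⟩ := exists_finite_affine_cover hW
  have hloc : ∀ i, ∃ n : ℕ, resO X (hUW i) f ^ n • res M (hUW i) s = 0 := fun i ↦ by
    refine (isLoc_of_isQCoh (hU i) (M := M)).exists_pow_smul_eq_zero _ _ ?_
    rw [res_res, ← res_res M (basicOpen_resO_le (hUW i) f) (X.basicOpen_le f), hs, map_zero]
  choose n hn using hloc
  refine ⟨Finset.univ.sup n, section_eq_of_locally fun x hx ↦ ?_⟩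
  obtain ⟨i, hi⟩ := hcov x hx
  refine ⟨U i, hUW i, hi, ?_⟩
  rw [res_smul, map_pow, map_zero]
  obtain ⟨k, hk⟩ := Nat.exists_eq_add_of_le (Finset.le_sup (f := n) (Finset.mem_univ i))
  rw [hk, add_comm, pow_add, mul_smul, hn i, smul_zero]

/-- Over a quasi-compact quasi-separated open, sections over `D(f)` extend up to powers of `f`. -/
lemma exists_pow_smul_extends_of_isCompact {W : X.Opens} (hW : IsCompact (W : Set X))
    (hW' : IsQuasiSeparated (W : Set X)) (f : Γ(X, W)) (t : Γ(M, X.basicOpen f)) :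
    ∃ (n : ℕ) (s : Γ(M, W)), res M (X.basicOpen_le f) s = resO X (X.basicOpen_le f) f ^ n • t := by
  obtain ⟨ι, hι, U, hU, hUW, hcov⟩ := exists_finite_affine_cover hW
  -- local extensions
  have hloc : ∀ i, ∃ (n : ℕ) (s : Γ(M, U i)), ∀ (V : X.Opens) (hVU : V ≤ U i)
      (hVf : V ≤ X.basicOpen f),
      res M hVU s = resO X (hVU.trans (hUW i)) f ^ n • res M hVf t := fun i ↦ by
    obtain ⟨n, s, hs⟩ := (isLoc_of_isQCoh (hU i) (M := M)).exists_extend (resO X (hUW i) f)
      (res M (basicOpen_resO_le (hUW i) f) t)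
    refine ⟨n, s, fun V hVU hVf ↦ ?_⟩
    have hV : V ≤ X.basicOpen (resO X (hUW i) f) :=
      (le_inf hVU hVf).trans_eq (X.basicOpen_res f (homOfLE (hUW i)).op).symm
    have h2 := congrArg (res M hV) hs
    rw [res_res, res_smul, map_pow, resO_resO, resO_resO, res_res] at h2
    exact h2
  choose n s hs using hloc
  set N := Finset.univ.sup n
  obtain ⟨s', hs'⟩ : ∃ s' : ∀ i, Γ(M, U i), ∀ i (V : X.Opens) (hVU : V ≤ U i)
      (hVf : V ≤ X.basicOpen f),
      res M hVU (s' i) = resO X (hVU.trans (hUW i)) f ^ N • res M hVf t := by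
    refine ⟨fun i ↦ resO X (hUW i) f ^ (N - n i) • s i, fun i V hVU hVf ↦ ?_⟩
    rw [res_smul, map_pow, resO_resO, hs i V hVU hVf, smul_smul, ← pow_add,
      Nat.sub_add_cancel (Finset.le_sup (f := n) (Finset.mem_univ i))]
  -- agreement on overlaps, up to powers of `f`
  have hov : ∀ i j, ∃ m : ℕ, resO X (inf_le_left.trans (hUW i) : U i ⊓ U j ≤ W) f ^ m •
      (res M (inf_le_left : U i ⊓ U j ≤ U i) (s' i) -
        res M (inf_le_right : U i ⊓ U j ≤ U j) (s' j)) = 0 := fun i j ↦ by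
    have hc : IsCompact ((U i ⊓ U j : X.Opens) : Set X) :=
      hW' _ _ (hUW i) (U i).2 (hU i).isCompact (hUW j) (U j).2 (hU j).isCompact
    refine exists_pow_smul_eq_zero_of_isCompact hc _ _ ?_
    rw [map_sub, res_res, res_res, hs' i _ _ (basicOpen_resO_le _ f),
      hs' j _ _ (basicOpen_resO_le _ f), sub_self]
  choose m hm using hov
  set K := Finset.univ.sup fun i ↦ Finset.univ.sup (m i)
  obtain ⟨a, ha, -⟩ := TopCat.Sheaf.existsUnique_gluing' (abSheaf M) U W
    (fun i ↦ homOfLE (hUW i))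
    (fun x hx ↦ let ⟨i, hi⟩ := hcov x hx; Opens.mem_iSup.mpr ⟨i, hi⟩)
    (fun i ↦ resO X (hUW i) f ^ K • s' i) (fun i j ↦ by
      change res M (inf_le_left : U i ⊓ U j ≤ U i) (resO X (hUW i) f ^ K • s' i) =
        res M (inf_le_right : U i ⊓ U j ≤ U j) (resO X (hUW j) f ^ K • s' j)
      rw [res_smul, res_smul, map_pow, map_pow, resO_resO, resO_resO, ← sub_eq_zero, ← smul_sub]
      obtain ⟨k, hk⟩ := Nat.exists_eq_add_of_le (le_trans (Finset.le_sup (f := m i) (Finset.mem_univ j))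
        (Finset.le_sup (f := fun i ↦ Finset.univ.sup (m i)) (Finset.mem_univ i)))
      change resO X _ f ^ K • _ = 0
      rw [show K = m i j + k from hk, add_comm, pow_add, mul_smul, hm i j, smul_zero])
  refine ⟨K + N, a, section_eq_of_locally fun x hx ↦ ?_⟩
  obtain ⟨i, hi⟩ := hcov x (X.basicOpen_le f hx)
  refine ⟨U i ⊓ X.basicOpen f, inf_le_right, ⟨hi, hx⟩, ?_⟩
  have hai : res M (hUW i) a = resO X (hUW i) f ^ K • s' i := ha i
  rw [res_res, ← res_res M (inf_le_left : U i ⊓ X.basicOpen f ≤ U i) (hUW i), hai, res_smul,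
    map_pow, resO_resO, hs' i _ inf_le_left inf_le_right, res_smul, map_pow, resO_resO,
    smul_smul, pow_add]

/-- The direct image of a quasi-coherent module along a qcqs morphism localises. -/
lemma isLoc_pushforward (g : X ⟶ Y) [QuasiCompact g] [QuasiSeparated g] {V : Y.Opens}
    (hV : IsAffineOpen V) : IsLoc ((Scheme.Modules.pushforward g).obj M) V := by
  have hc : IsCompact ((g ⁻¹ᵁ V : X.Opens) : Set X) :=
    g.isSpectralMap.isCompact_preimage_of_isOpen V.2 hV.isCompact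
  have hq : IsQuasiSeparated ((g ⁻¹ᵁ V : X.Opens) : Set X) :=
    g.isQuasiSeparated_preimage hV.isQuasiSeparated
  have hb : ∀ b : Γ(Y, V), g ⁻¹ᵁ Y.basicOpen b = X.basicOpen (g.app V b) := fun b ↦
    Scheme.preimage_basicOpen g b
  have hsm : ∀ (O : Y.Opens) (c : Γ(Y, O)) (x : Γ((Scheme.Modules.pushforward g).obj M, O)),
      c • x = (show Γ(M, g ⁻¹ᵁ O) from g.app O c • (show Γ(M, g ⁻¹ᵁ O) from x)) := fun _ _ _ ↦ rfl
  have hnat : ∀ (b c : Γ(Y, V)), g.app (Y.basicOpen b) (resO Y (Y.basicOpen_le b) c) =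
      resO X (g.preimage_mono (Y.basicOpen_le b)) (g.app V c) := fun b c ↦
    congr($(g.naturality (homOfLE (Y.basicOpen_le b)).op) c)
  constructor
  · intro b t
    let t' : Γ(M, X.basicOpen (g.app V b)) := res M (hb b).ge t
    obtain ⟨n, s, hs⟩ := exists_pow_smul_extends_of_isCompact hc hq (g.app V b) t'
    refine ⟨n, s, ?_⟩
    rw [hsm, map_pow, hnat]
    have h2 := congrArg (res M (hb b).le) hs
    rw [res_res, res_smul, map_pow, resO_resO, res_res, res_self] at h2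
    exact h2
  · intro b s hs
    have hs' : res M (X.basicOpen_le (g.app V b)) (show Γ(M, g ⁻¹ᵁ V) from s) = 0 := by
      rw [← res_res M (hb b).ge (g.preimage_mono (Y.basicOpen_le b))]
      exact (congrArg (res M (hb b).ge) hs).trans (map_zero _)
    obtain ⟨n, hn⟩ := exists_pow_smul_eq_zero_of_isCompact hc (g.app V b) _ hs'
    refine ⟨n, ?_⟩
    rw [hsm, map_pow]
    exact hn

lemma isQCoh_pushforward (g : X ⟶ Y) [QuasiCompact g] [QuasiSeparated g] :
    Coh.IsQCoh ((Scheme.Modules.pushforward g).obj M) :=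
  isQCoh_iff_isLoc.mpr fun V ↦ isLoc_pushforward g V.2

/-- The direct image of a coherent module along a finite morphism is coherent. -/
lemma isCoh_pushforward_of_isFinite (g : X ⟶ Y) [IsFinite g] (hFT : CohB1.IsFT M) :
    Coh.IsCoh ((Scheme.Modules.pushforward g).obj M) := by
  haveI hq : ((Scheme.Modules.pushforward g).obj M).IsQuasicoherent := isQCoh_pushforward g
  refine ⟨hq, (isFT_iff_finite_sections (hM := hq)).mpr fun V ↦ ?_⟩
  haveI : Module.Finite Γ(X, g ⁻¹ᵁ V.1) Γ(M, g ⁻¹ᵁ V.1) :=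
    finite_sections (V.2.preimage g) hFT
  letI : Algebra Γ(Y, V.1) Γ(X, g ⁻¹ᵁ V.1) := (g.app V.1).hom.toAlgebra
  haveI : Module.Finite Γ(Y, V.1) Γ(X, g ⁻¹ᵁ V.1) := IsFinite.finite_app g V.1 V.2
  letI : Module Γ(Y, V.1) Γ(M, g ⁻¹ᵁ V.1) := Module.compHom _ (g.app V.1).hom
  haveI : IsScalarTower Γ(Y, V.1) Γ(X, g ⁻¹ᵁ V.1) Γ(M, g ⁻¹ᵁ V.1) :=
    IsScalarTower.of_algebraMap_smul fun _ _ ↦ rfl
  haveI := Module.Finite.trans (R := Γ(Y, V.1)) Γ(X, g ⁻¹ᵁ V.1) Γ(M, g ⁻¹ᵁ V.1)
  exact Module.Finite.equiv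
    ({ toFun := id, invFun := id, map_add' := fun _ _ ↦ rfl, map_smul' := fun _ _ ↦ rfl } :
      Γ(M, g ⁻¹ᵁ V.1) ≃ₗ[Γ(Y, V.1)] Γ((Scheme.Modules.pushforward g).obj M, V.1))

end Groth.Agent.QC
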