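import Groth.Agent.QC.Closure
/-!
# Coherent modules on locally Noetherian schemes
-/

universe u

open CategoryTheory CategoryTheory.Limits AlgebraicGeometry TopologicalSpace Opposite

set_option backward.isDefEq.respectTransparency false

noncomputable section

namespace Groth.Agent.QC

variable {X : Scheme.{u}} {M N : X.Modules}

/-- A morphism on sections, linearly. -/
def appₗ (φ : M ⟶ N) (U : X.Opens) : Γ(M, U) →ₗ[Γ(X, U)] Γ(N, U) where
  toFun := φ.app U
  map_add' := map_add _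
  map_smul' := Scheme.Modules.Hom.app_smul φ

@[simp] lemma appₗ_apply (φ : M ⟶ N) (U : X.Opens) (s : Γ(M, U)) : appₗ φ U s = φ.app U s := rfl

lemma isCoh_of_epi (hM : Coh.IsCoh M) (hN : Coh.IsQCoh N) (p : M ⟶ N) [Epi p] : Coh.IsCoh N :=
  ⟨hN, isFT_of_epi p hM.2⟩

lemma isCoh_iff_finite_sections :
    Coh.IsCoh M ↔ Coh.IsQCoh M ∧ ∀ U : X.affineOpens, Module.Finite Γ(X, U.1) Γ(M, U.1) :=
  ⟨fun h ↦ ⟨h.1, (isFT_iff_finite_sections (hM := h.1)).mp h.2⟩,
    fun h ↦ ⟨h.1, (isFT_iff_finite_sections (hM := h.1)).mpr h.2⟩⟩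

/-- Quasi-coherent submodules of coherent modules are coherent. -/
lemma isCoh_of_mono [IsLocallyNoetherian X] (i : N ⟶ M) [Mono i] (hM : Coh.IsCoh M)
    (hN : Coh.IsQCoh N) : Coh.IsCoh N := by
  refine isCoh_iff_finite_sections.mpr ⟨hN, fun U ↦ ?_⟩
  haveI := (isCoh_iff_finite_sections.mp hM).2 U
  haveI : IsNoetherianRing Γ(X, U.1) := IsLocallyNoetherian.component_noetherian U
  exact Module.Finite.of_injective (appₗ i U.1) (app_injective_of_mono i U.1)

lemma isCoh_kernel [IsLocallyNoetherian X] (hM : Coh.IsCoh M) (hN : Coh.IsQCoh N) (φ : M ⟶ N) :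
    Coh.IsCoh (kernel φ) :=
  isCoh_of_mono (kernel.ι φ) hM (isQCoh_kernel hM.1 hN φ)

lemma isCoh_cokernel (hM : Coh.IsQCoh M) (hN : Coh.IsCoh N) (φ : M ⟶ N) :
    Coh.IsCoh (cokernel φ) :=
  isCoh_of_epi hN (isQCoh_cokernel hM hN.1 φ) (cokernel.π φ)

/-- The ascending chain condition for quasi-coherent subobjects of a coherent module. -/
lemma acc_subobject [IsNoetherian X] (hM : Coh.IsCoh M) (F : ℕ →o Subobject M)
    (hF : ∀ n, Coh.IsQCoh ((F n : Subobject M) : X.Modules)) :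
    ∃ n : ℕ, ∀ m : ℕ, n ≤ m → F m = F n := by
  classical
  obtain ⟨S, hS, hSU⟩ : ∃ S : Finset X.affineOpens, True ∧ ∀ x : X, ∃ U ∈ S, x ∈ U.1 := by
    obtain ⟨S, hS⟩ := isCompact_univ.elim_finite_subcover (fun U : X.affineOpens ↦ (U.1 : Set X))
      (fun U ↦ U.1.2) (fun x _ ↦ by
        obtain ⟨U, hU, hx⟩ := exists_affine_mem x
        exact Set.mem_iUnion.mpr ⟨⟨U, hU⟩, hx⟩)
    exact ⟨S, trivial, fun x ↦ by simpa [Set.mem_iUnion] using hS (Set.mem_univ x)⟩
  have hle : ∀ (U : X.affineOpens) {a b : ℕ}, a ≤ b →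
      LinearMap.range (appₗ (F a).arrow U.1) ≤ LinearMap.range (appₗ (F b).arrow U.1) := by
    rintro U a b hab _ ⟨s, rfl⟩
    refine ⟨((F a).ofLE (F b) (F.monotone hab)).app U.1 s, ?_⟩
    change (((F a).ofLE (F b) _ ≫ (F b).arrow).app U.1) s = (F a).arrow.app U.1 s
    rw [Subobject.ofLE_arrow]
  have hst : ∀ U : X.affineOpens, ∃ n, ∀ m, n ≤ m →
      LinearMap.range (appₗ (F m).arrow U.1) = LinearMap.range (appₗ (F n).arrow U.1) := by
    intro U
    haveI := (isCoh_iff_finite_sections.mp hM).2 U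
    haveI : IsNoetherianRing Γ(X, U.1) := IsLocallyNoetherian.component_noetherian U
    obtain ⟨n, hn⟩ := WellFoundedGT.monotone_chain_condition
      (⟨fun k ↦ LinearMap.range (appₗ (F k).arrow U.1), fun a b h ↦ hle U h⟩ :
        ℕ →o Submodule Γ(X, U.1) Γ(M, U.1))
    exact ⟨n, fun m hm ↦ (hn m hm).symm⟩
  choose k hk using hst
  refine ⟨S.sup k, fun m hm ↦ ?_⟩
  set n := S.sup k
  let φ := (F n).ofLE (F m) (F.monotone hm)
  have hφ : φ ≫ (F m).arrow = (F n).arrow := Subobject.ofLE_arrow _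
  haveI : IsIso φ := by
    refine isIso_of_restrict_cover (fun U : S ↦ U.1.2.fromSpec) (fun x ↦ ?_) φ fun U ↦ ?_
    · obtain ⟨U, hU, hx⟩ := hSU x
      exact ⟨⟨U, hU⟩, U.2.range_fromSpec.symm ▸ hx⟩
    · refine isIso_restrict_of_bijective U.1.2 (hF n) (hF m) φ ⟨app_injective_of_mono φ _, ?_⟩
      intro t
      have h1 : (F m).arrow.app U.1.1 t ∈ LinearMap.range (appₗ (F m).arrow U.1.1) := ⟨t, rfl⟩
      rw [hk U.1 m (le_trans (Finset.le_sup U.2) hm)] at h1
      obtain ⟨s, hs⟩ := hle U.1 (Finset.le_sup U.2) h1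
      refine ⟨s, app_injective_of_mono (F m).arrow _ ?_⟩
      change ((φ ≫ (F m).arrow).app U.1.1) s = _
      rw [hφ]
      exact hs
  exact (Subobject.eq_of_comm (asIso φ) hφ).symm

end Groth.Agent.QC
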