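import Groth.Agent.QC.AffineSpec
/-!
# Sections of quasi-coherent modules over affine opens

`IsLoc M U`: the sections over the basic opens of `U` are the localisations of the sections over
`U` (elementary form). For affine `U` this is equivalent to `M.restrict hU.fromSpec` being
quasi-coherent, hence to being the tilde of `Γ(M, U)`.
-/

universe u

open CategoryTheory CategoryTheory.Limits AlgebraicGeometry TopologicalSpace Opposite

set_option backward.isDefEq.respectTransparency false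

noncomputable section

namespace Groth.Agent.QC

variable {X : Scheme.{u}} {M N : X.Modules} {U : X.Opens}

/-- Sections over basic opens of `U` are localisations of sections over `U`. -/
structure IsLoc (M : X.Modules) (U : X.Opens) : Prop where
  exists_extend : ∀ (f : Γ(X, U)) (t : Γ(M, X.basicOpen f)), ∃ (n : ℕ) (s : Γ(M, U)),
    res M (X.basicOpen_le f) s = (resO X (X.basicOpen_le f) f) ^ n • t
  exists_pow_smul_eq_zero : ∀ (f : Γ(X, U)) (s : Γ(M, U)),
    res M (X.basicOpen_le f) s = 0 → ∃ n : ℕ, f ^ n • s = 0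

variable (hU : IsAffineOpen U)

lemma image_fromSpec_top : hU.fromSpec ''ᵁ ⊤ = U := by
  rw [Scheme.Hom.image_top_eq_opensRange, hU.opensRange_fromSpec]

lemma image_fromSpec_le (W : (Spec Γ(X, U)).Opens) : hU.fromSpec ''ᵁ W ≤ U :=
  (Scheme.Hom.image_mono _ le_top).trans (image_fromSpec_top hU).le

/-- The scalars of `Spec Γ(X, U)` seen on `X`. -/
lemma appIso_inv_fromSpec (W : (Spec Γ(X, U)).Opens) (r : Γ(X, U)) :
    (hU.fromSpec.appIso W).inv
        ((Spec Γ(X, U)).presheaf.map W.leTop.op ((Scheme.ΓSpecIso Γ(X, U)).inv r)) =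
      resO X (image_fromSpec_le hU W) r := by
  have e : W ≤ hU.fromSpec ⁻¹ᵁ U := by simp [hU.fromSpec_preimage_self]
  have h1 : (Scheme.ΓSpecIso Γ(X, U)).inv ≫ (Spec Γ(X, U)).presheaf.map W.leTop.op =
      hU.fromSpec.appLE U W e := by
    rw [Scheme.Hom.appLE, hU.fromSpec_app_self, Category.assoc, ← Functor.map_comp]
    rfl
  change (((Scheme.ΓSpecIso Γ(X, U)).inv ≫ (Spec Γ(X, U)).presheaf.map W.leTop.op) ≫
    (hU.fromSpec.appIso W).inv) r = _
  rw [h1, Scheme.Hom.appLE_appIso_inv]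

/-- Sections of `M|_{Spec Γ(X, U)}` as sections of `M`. -/
def secEquiv (M : X.Modules) (W : (Spec Γ(X, U)).Opens) {V : X.Opens}
    (h : hU.fromSpec ''ᵁ W = V) : Γ(M.restrict hU.fromSpec, W) ≃+ Γ(M, V) where
  toFun s := res M h.ge ((M.restrictAppIso hU.fromSpec W).hom s)
  invFun t := (M.restrictAppIso hU.fromSpec W).inv (res M h.le t)
  left_inv s := by
    simp only [res_res, res_self]
    rfl
  right_inv t := by
    subst h
    simp only [res_self]
    rfl
  map_add' a b := by simp only [map_add]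

lemma secEquiv_smul (W : (Spec Γ(X, U)).Opens) {V : X.Opens} (h : hU.fromSpec ''ᵁ W = V)
    (r : Γ(X, U)) (s : Γ(M.restrict hU.fromSpec, W)) :
    secEquiv hU M W h (r • s) =
      resO X (h ▸ image_fromSpec_le hU W) r • secEquiv hU M W h s := by
  subst h
  change res M le_rfl ((M.restrictAppIso hU.fromSpec W).hom (r • s)) = _
  rw [Scheme.Modules.smul_Spec_def]
  rw [res_self]
  have := M.smul_restrictAppIso_hom_apply hU.fromSpec W
    ((Spec Γ(X, U)).presheaf.map W.leTop.op ((Scheme.ΓSpecIso Γ(X, U)).inv r)) s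
  refine this.trans ?_
  rw [appIso_inv_fromSpec hU]
  change _ = resO X _ r • res M le_rfl ((M.restrictAppIso hU.fromSpec W).hom s)
  rw [res_self]

lemma secEquiv_res {W' W : (Spec Γ(X, U)).Opens} (hW : W' ≤ W) {V' V : X.Opens}
    (h' : hU.fromSpec ''ᵁ W' = V') (h : hU.fromSpec ''ᵁ W = V)
    (s : Γ(M.restrict hU.fromSpec, W)) :
    secEquiv hU M W' h' (res (M.restrict hU.fromSpec) hW s) =
      res M (h ▸ h' ▸ Scheme.Hom.image_mono _ hW) (secEquiv hU M W h s) := by
  subst h h'
  change res M le_rfl _ = res M _ (res M le_rfl _)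
  rw [res_res, res_self]
  rfl

/-- `IsLoc` in terms of `Spec Γ(X, U)`. -/
lemma isLoc_iff_isQCoh : IsLoc M U ↔ Coh.IsQCoh (M.restrict hU.fromSpec) := by
  set P := M.restrict hU.fromSpec
  rw [Coh.IsQCoh, isQuasicoherent_iff_isIso_fromTildeΓ, isIso_fromTildeΓ_iff_isLocalizing]
  set eU := secEquiv hU M ⊤ (image_fromSpec_top hU)
  let eD (f : Γ(X, U)) := secEquiv hU M (PrimeSpectrum.basicOpen f) (hU.fromSpec_image_basicOpen f)
  have key (f : Γ(X, U)) (s : Γ(P, ⊤)) : eD f (res P le_top s) = res M (X.basicOpen_le f) (eU s) :=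
    secEquiv_res hU le_top (hU.fromSpec_image_basicOpen f) (image_fromSpec_top hU) s
  have hD (f g : Γ(X, U)) (n : ℕ) (t : Γ(P, PrimeSpectrum.basicOpen g)) :
      eD g (f ^ n • t) = (resO X (X.basicOpen_le g) f) ^ n • eD g t := by
    rw [← map_pow]
    exact secEquiv_smul hU _ (hU.fromSpec_image_basicOpen g) (f ^ n) t
  have hT (f : Γ(X, U)) (n : ℕ) (t : Γ(P, ⊤)) : eU (f ^ n • t) = f ^ n • eU t := by
    have h2 := secEquiv_smul hU _ (image_fromSpec_top hU) (f ^ n) t
    rwa [resO_self] at h2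
  constructor
  · intro h f
    refine IsLocalizedModule.Away.mk_of_addCommGroup ?_ ?_ ?_
    · exact P.isUnit_algebraMap_end_of_le_basicOpen f le_rfl
    · intro x
      obtain ⟨n, s, hs⟩ := h.exists_extend f (eD f x)
      refine ⟨n, eU.symm s, (eD f).injective ?_⟩
      change eD f (f ^ n • x) = eD f (res P le_top (eU.symm s))
      rw [key, AddEquiv.apply_symm_apply, hs, hD]
    · intro x hx
      have : res M (X.basicOpen_le f) (eU x) = 0 := by
        rw [← key, show res P le_top x = 0 from hx, map_zero]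
      obtain ⟨n, hn⟩ := h.exists_pow_smul_eq_zero f _ this
      exact ⟨n, eU.injective (by rw [hT, hn, map_zero])⟩
  · intro h
    refine ⟨fun f t ↦ ?_, fun f s hs ↦ ?_⟩
    · obtain ⟨⟨a, ⟨_, n, rfl⟩⟩, ha⟩ := (h f).surj ((eD f).symm t)
      refine ⟨n, eU a, ?_⟩
      rw [← key]
      refine (congrArg (eD f) ha.symm).trans ?_
      change eD f (f ^ n • (eD f).symm t) = _
      rw [hD, AddEquiv.apply_symm_apply]
    · have h0 : res P le_top (eU.symm s) = 0 := (eD f).injective (by
        rw [key, AddEquiv.apply_symm_apply, hs, map_zero])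
      obtain ⟨⟨_, n, rfl⟩, hn⟩ := (h f).exists_of_eq (x₁ := eU.symm s) (x₂ := 0)
        (h0.trans (map_zero _).symm)
      refine ⟨n, ?_⟩
      have h3 : f ^ n • eU.symm s = 0 := hn.trans (smul_zero _)
      have h2 := congr(eU $h3)
      rwa [hT, map_zero, AddEquiv.apply_symm_apply] at h2

include hU in
/-- Sections of a quasi-coherent module over an affine open localise. -/
lemma isLoc_of_isQCoh [hM : M.IsQuasicoherent] : IsLoc M U :=
  (isLoc_iff_isQCoh hU).mpr (isQCoh_restrict hU.fromSpec hM)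

omit hU in
/-- A module is quasi-coherent if its sections localise over an affine cover. -/
lemma isQCoh_of_isLoc (h : ∀ x : X, ∃ U : X.Opens, IsAffineOpen U ∧ x ∈ U ∧ IsLoc M U) :
    Coh.IsQCoh M :=
  isQCoh_of_local fun x ↦ by
    obtain ⟨U, hU, hx, hloc⟩ := h x
    exact ⟨_, hU.fromSpec, inferInstance, hU.range_fromSpec.symm ▸ hx,
      (isLoc_iff_isQCoh hU).mp hloc⟩

omit hU in
lemma isQCoh_iff_isLoc : Coh.IsQCoh M ↔ ∀ U : X.affineOpens, IsLoc M U.1 := by
  refine ⟨fun h U ↦ isLoc_of_isQCoh U.2 (hM := h), fun h ↦ isQCoh_of_isLoc fun x ↦ ?_⟩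
  obtain ⟨_, ⟨U : X.Opens, hU : IsAffineOpen U, rfl⟩, hx, -⟩ :=
    X.isBasis_affineOpens.exists_subset_of_mem_open (Set.mem_univ x) isOpen_univ
  exact ⟨U, hU, hx, h ⟨U, hU⟩⟩

end Groth.Agent.QC
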