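import Groth.Agent.QC.PullbackTilde
import Groth.Prelude.Def_Omega4
/-!
# Pulling back sections through the standard isomorphisms of pullback functors
-/

universe u

open CategoryTheory CategoryTheory.Limits AlgebraicGeometry TopologicalSpace Opposite

set_option backward.isDefEq.respectTransparency false

noncomputable section

namespace Groth.Agent.QC

variable {X Y Z : Scheme.{u}}

/-- Pulling back sections is natural in the module. -/
lemma app_pullSect (f : X ⟶ Y) {M N : Y.Modules} (ψ : M ⟶ N) (W : Y.Opens) (m : Γ(M, W)) :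
    ((Scheme.Modules.pullback f).map ψ).app (f ⁻¹ᵁ W) (OmegaSh.pullSect f M W m) =
      OmegaSh.pullSect f N W (ψ.app W m) := by
  have h := congr(($((Scheme.Modules.pullbackPushforwardAdjunction f).unit.naturality ψ)).app W m)
  exact h.symm

/-- Pulling back along a composite. -/
lemma pullbackComp_hom_pullSect (f : X ⟶ Y) (g : Y ⟶ Z) (M : Z.Modules) (W : Z.Opens) (m : Γ(M, W)) :
    ((Scheme.Modules.pullbackComp f g).hom.app M).app (f ⁻¹ᵁ (g ⁻¹ᵁ W))
      (OmegaSh.pullSect f ((Scheme.Modules.pullback g).obj M) (g ⁻¹ᵁ W) (OmegaSh.pullSect g M W m)) =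
      OmegaSh.pullSect (f ≫ g) M W m := by
  let adj₁ := (Scheme.Modules.pullbackPushforwardAdjunction g).comp
    (Scheme.Modules.pullbackPushforwardAdjunction f)
  let adj₂ := Scheme.Modules.pullbackPushforwardAdjunction (f ≫ g)
  have h := unit_conjugateEquiv adj₁ adj₂ (Scheme.Modules.pullbackComp f g).inv M
  rw [Scheme.Modules.conjugateEquiv_pullbackComp_inv] at h
  have h2 := congr(($h).app W m)
  simp only [Functor.comp_obj, Scheme.Modules.Hom.comp_app, ConcreteCategory.comp_apply,
    Scheme.Modules.pushforwardComp_hom_app_app, ConcreteCategory.id_apply] at h2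
  have h3 : OmegaSh.pullSect f ((Scheme.Modules.pullback g).obj M) (g ⁻¹ᵁ W) (OmegaSh.pullSect g M W m) =
      ((Scheme.Modules.pullbackComp f g).inv.app M).app (f ⁻¹ᵁ (g ⁻¹ᵁ W))
        (OmegaSh.pullSect (f ≫ g) M W m) := h2
  rw [h3]
  exact congr(($((Scheme.Modules.pullbackComp f g).inv_hom_id_app M)).app (f ⁻¹ᵁ (g ⁻¹ᵁ W)) _)

/-- Pulling back along equal morphisms. -/
lemma pullbackCongr_hom_pullSect {f g : X ⟶ Y} (h : f = g) (M : Y.Modules) (W : Y.Opens) (m : Γ(M, W)) :
    ((Scheme.Modules.pullbackCongr h).hom.app M).app (f ⁻¹ᵁ W) (OmegaSh.pullSect f M W m) =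
      ((Scheme.Modules.pullback g).obj M).presheaf.map (eqToHom (h ▸ rfl : f ⁻¹ᵁ W = g ⁻¹ᵁ W)).op
        (OmegaSh.pullSect g M W m) := by
  subst h
  simp [Scheme.Modules.pullbackCongr]

/-- Pulling back along an open immersion is restricting. -/
lemma restrictIso_hom_pullSect (g : X ⟶ Y) [IsOpenImmersion g] (M : Y.Modules) (W : Y.Opens)
    (m : Γ(M, W)) :
    ((Scheme.Modules.restrictFunctorIsoPullback g).hom.app M).app (g ⁻¹ᵁ W)
      (M.presheaf.map (homOfLE (g.image_preimage_le W)).op m) = OmegaSh.pullSect g M W m := by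
  have h := Adjunction.unit_leftAdjointUniq_hom_app (Scheme.Modules.restrictAdjunction g)
    (Scheme.Modules.pullbackPushforwardAdjunction g) M
  exact congr(($h).app W m)

variable {R S : CommRingCat.{u}} (φ : R ⟶ S)

/-- Pulling back the sections of `M~` coming from `M`. -/
lemma pullbackTildeIso_hom_pullSect (M : ModuleCat.{u} R) (m : M) :
    ((pullbackTildeIso φ).hom.app M).app ⊤
      (OmegaSh.pullSect (Spec.map φ) (tilde M) ⊤ (tilde.toOpen M ⊤ m)) =
    tilde.toOpen ((ModuleCat.extendScalars φ.hom).obj M) ⊤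
      ((ModuleCat.extendRestrictScalarsAdj.{u, u, u} φ.hom).unit.app M m) := by
  let adj₁ := (tilde.adjunction.comp
    (Scheme.Modules.pullbackPushforwardAdjunction (Spec.map φ))).ofNatIsoRight (pushforwardΓIso φ)
  let adj₂ := (ModuleCat.extendRestrictScalarsAdj.{u, u, u} φ.hom).comp tilde.adjunction
  have h := congr($(Adjunction.unit_leftAdjointUniq_hom_app adj₁ adj₂ M) m)
  exact h

end Groth.Agent.QC
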