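import Groth.Agent.QC.OmegaAffine
import Groth.Agent.QC.PullSect
import Groth.Prelude.Def_OmAff
/-!
# Sections of the sheaf of differentials over an affine piece, with the derivation
-/

universe u

open CategoryTheory CategoryTheory.Limits AlgebraicGeometry TopologicalSpace Opposite TensorProduct

set_option backward.isDefEq.respectTransparency false

noncomputable section

namespace Groth.Agent.QC

/-- The inverse of `isoTildeΓ` on global sections. -/
lemma isoTildeΓ_inv_app_top {B : CommRingCat.{u}} (M : (Spec B).Modules) [M.IsQuasicoherent]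
    (a : Γ(M, ⊤)) :
    (isoTildeΓ M).inv.app ⊤ a =
      tilde.toOpen ((modulesSpecToSheaf.obj M).presheaf.obj (op ⊤)) ⊤ a := by
  have h := congr($(Scheme.Modules.toOpen_fromTildeΓ_app M ⊤) a)
  have h2 : (isoTildeΓ M).hom.app ⊤
      (tilde.toOpen ((modulesSpecToSheaf.obj M).presheaf.obj (op ⊤)) ⊤ a) = a :=
    h.trans congr($((modulesSpecToSheaf.obj M).obj.map_id _) a)
  conv_lhs => rw [← h2]
  exact congr(($((isoTildeΓ M).hom_inv_id)).app ⊤ _)

/-- `tilde` of a map, on the sections coming from the module. -/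
lemma tildeMap_app_toOpen {B : CommRingCat.{u}} {M N : ModuleCat.{u} B} (q : M ⟶ N) (m : M) :
    (tilde.map q).app ⊤ (tilde.toOpen M ⊤ m) = tilde.toOpen N ⊤ (q m) :=
  congr($(tilde.toOpen_map_app q ⊤) m)

/-- The restriction of the module of an ideal sheaf to an affine piece, with its sections. -/
lemma exists_restrict_idealMod_iso {P : Scheme.{u}} {B : CommRingCat.{u}} (g : Spec B ⟶ P)
    [IsOpenImmersion g] (I : P.IdealSheafData) (J : Ideal B)
    (hJ : ∀ t : Γ(P, g ''ᵁ ⊤), t ∈ I.ideal ⟨g ''ᵁ ⊤, (isAffineOpen_top _).image_of_isOpenImmersion g⟩ ↔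
      (Scheme.ΓSpecIso B).hom ((g.appIso ⊤).hom t) ∈ J) :
    ∃ (e : (ClSub.idealMod I).restrict g ≅ tilde (ModuleCat.of B J)),
      ∀ (k : Γ(ClSub.idealMod I, g ''ᵁ ⊤)),
      ∃ (c : J), (c : B) = (Scheme.ΓSpecIso B).hom
          ((g.appIso ⊤).hom ((ClSub.idealModι I).app (g ''ᵁ ⊤) k)) ∧
        e.hom.app ⊤ k = tilde.toOpen (ModuleCat.of B J) ⊤ c := by
  set N := (ClSub.idealMod I).restrict g with hN
  haveI : N.IsQuasicoherent := isQCoh_restrict g (isQCoh_idealMod _)
  let j' : N ⟶ Coh.structureModule (Spec B) :=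
    (Scheme.Modules.restrictFunctor g).map (ClSub.idealModι I) ≫
      (Scheme.Modules.restrictUnitIso g).hom
  have hW := (isAffineOpen_top (Spec B)).image_of_isOpenImmersion g
  have h : ∀ s : Γ(Spec B, ⊤), s ∈ Set.range (j'.app ⊤) ↔ (Scheme.ΓSpecIso B).hom s ∈ J := by
    intro s
    set t := (g.appIso ⊤).inv s with ht
    have hs : (g.appIso ⊤).hom t = s := Iso.inv_hom_id_apply _ _
    rw [← hs, ← hJ, ← mem_range_idealModι_affine I ⟨g ''ᵁ ⊤, hW⟩]
    constructor
    · rintro ⟨a, ha⟩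
      refine ⟨a, ?_⟩
      apply (g.appIso ⊤).commRingCatIsoToRingEquiv.injective
      exact ha
    · rintro ⟨a, ha⟩
      exact ⟨a, congrArg (g.appIso ⊤).hom ha⟩
  let G := (modulesSpecToSheaf.obj N).presheaf.obj (op ⊤)
  let c : Γ(N, ⊤) →+ B :=
    ((Scheme.ΓSpecIso B).hom.hom.toAddMonoidHom).comp (j'.app ⊤).hom
  let l : G →ₗ[B] J :=
    LinearMap.codRestrict J
      { toFun := fun a ↦ c a
        map_add' := fun a b ↦ map_add c a b
        map_smul' := fun r a ↦ by
          change (Scheme.ΓSpecIso B).hom (j'.app ⊤ ((show B from r) • (show Γ(N, ⊤) from a))) = _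
          rw [Scheme.Modules.smul_Spec_def, Scheme.Modules.Hom.app_smul]
          change (Scheme.ΓSpecIso B).hom ((show Γ(Spec B, ⊤) from _) * _) = _
          rw [map_mul]
          have h1 : (Spec B).presheaf.map (⊤ : (Spec B).Opens).leTop.op = 𝟙 _ :=
            (Spec B).presheaf.map_id _
          rw [h1]
          change (Scheme.ΓSpecIso B).hom ((Scheme.ΓSpecIso B).inv r) * _ = r • c a
          rw [Iso.inv_hom_id_apply]
          rfl }
      fun a ↦ (h _).mp ⟨a, rfl⟩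
  have hl : Function.Bijective l := by
    constructor
    · intro a b hab
      have h1 : c a = c b := congrArg Subtype.val hab
      exact app_injective_of_mono j' ⊤ ((Scheme.ΓSpecIso B).commRingCatIsoToRingEquiv.injective h1)
    · intro y
      obtain ⟨a, ha⟩ := (h ((Scheme.ΓSpecIso B).inv y.1)).mpr (by rw [Iso.inv_hom_id_apply]; exact y.2)
      refine ⟨a, Subtype.ext ?_⟩
      change (Scheme.ΓSpecIso B).hom (j'.app ⊤ a) = _
      rw [ha, Iso.inv_hom_id_apply]
  let q := (LinearEquiv.ofBijective l hl).toModuleIso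
  refine ⟨(isoTildeΓ N).symm ≪≫ (tilde.functor B).mapIso q, fun k ↦ ⟨l k, rfl, ?_⟩⟩
  change (tilde.map q.hom).app ⊤ ((isoTildeΓ N).inv.app ⊤ k) = _
  rw [isoTildeΓ_inv_app_top, tildeMap_app_toOpen]
  rfl

/-- Sections over an affine piece are the global sections of the pullback. -/
lemma bijective_res_pullSect {X : Scheme.{u}} {V : Scheme.{u}} (j : V ⟶ X) [IsOpenImmersion j]
    (M : X.Modules) (htop : ⊤ ≤ j ⁻¹ᵁ (j ''ᵁ ⊤)) :
    Function.Bijective fun m ↦ res ((Scheme.Modules.pullback j).obj M) htop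
      (OmegaSh.pullSect j M (j ''ᵁ ⊤) m) := by
  have e1 : j ''ᵁ (j ⁻¹ᵁ (j ''ᵁ ⊤)) ≤ j ''ᵁ ⊤ := j.image_preimage_le _
  have e2 : j ''ᵁ ⊤ ≤ j ''ᵁ (j ⁻¹ᵁ (j ''ᵁ ⊤)) := j.image_mono htop
  have h : (fun m ↦ res ((Scheme.Modules.pullback j).obj M) htop
      (OmegaSh.pullSect j M (j ''ᵁ ⊤) m)) =
      (((Scheme.Modules.restrictFunctorIsoPullback j).hom.app M).app ⊤) ∘
        (fun m ↦ res M e2 (res M e1 m)) := by
    funext m
    rw [← restrictIso_hom_pullSect, app_res]
    rfl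
  rw [h]
  refine (ConcreteCategory.bijective_of_isIso _).comp ⟨fun a b hab ↦ ?_, fun c ↦ ⟨c, ?_⟩⟩
  · change res M e2 (res M e1 a) = res M e2 (res M e1 b) at hab
    rwa [res_res, res_res, res_self, res_self] at hab
  · change res M e2 (res M e1 c) = c
    rw [res_res, res_self]

/-- The comparison of pullbacks along a commutative square, one side of which starts with an open
immersion. -/
def sqMap {S X P T : Scheme.{u}} (j : S ⟶ X) (Δ : X ⟶ P) (μ : S ⟶ T) (g : T ⟶ P)
    [IsOpenImmersion g] (hΔ : j ≫ Δ = μ ≫ g) (I : P.Modules) {Q : T.Modules} (e : I.restrict g ⟶ Q) :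
    (Scheme.Modules.pullback j).obj ((Scheme.Modules.pullback Δ).obj I) ⟶
      (Scheme.Modules.pullback μ).obj Q :=
  (Scheme.Modules.pullbackComp j Δ).hom.app I ≫ (Scheme.Modules.pullbackCongr hΔ).hom.app I ≫
    (Scheme.Modules.pullbackComp μ g).inv.app I ≫
    (Scheme.Modules.pullback μ).map ((Scheme.Modules.restrictFunctorIsoPullback g).inv.app I ≫ e)

instance {S X P T : Scheme.{u}} (j : S ⟶ X) (Δ : X ⟶ P) (μ : S ⟶ T) (g : T ⟶ P)
    [IsOpenImmersion g] (hΔ : j ≫ Δ = μ ≫ g) (I : P.Modules) {Q : T.Modules} (e : I.restrict g ⟶ Q)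
    [IsIso e] : IsIso (sqMap j Δ μ g hΔ I e) := by
  unfold sqMap; infer_instance

/-- Pulling a section back in two ways along a commutative square, one side of which starts with an
open immersion. -/
lemma pullSect_square {S X P T : Scheme.{u}} (j : S ⟶ X) (Δ : X ⟶ P) (μ : S ⟶ T) (g : T ⟶ P)
    [IsOpenImmersion g] (hΔ : j ≫ Δ = μ ≫ g) (I : P.Modules) (N : P.Opens) (s : Γ(I, N))
    (hle : ⊤ ≤ j ⁻¹ᵁ (Δ ⁻¹ᵁ N)) (hg : ⊤ ≤ g ⁻¹ᵁ N) (hgN : g ''ᵁ ⊤ ≤ N)
    {Q : T.Modules} (e : I.restrict g ⟶ Q) :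
    (sqMap j Δ μ g hΔ I e).app ⊤
      (res ((Scheme.Modules.pullback j).obj ((Scheme.Modules.pullback Δ).obj I)) hle
        (OmegaSh.pullSect j ((Scheme.Modules.pullback Δ).obj I) (Δ ⁻¹ᵁ N)
          (OmegaSh.pullSect Δ I N s))) =
      OmegaSh.pullSect μ Q ⊤ (e.app ⊤ (res I hgN s)) := by
  have hleμ : ⊤ ≤ μ ⁻¹ᵁ (g ⁻¹ᵁ N) := fun x _ ↦ hg trivial
  have h1 : ((Scheme.Modules.pullbackComp j Δ).hom.app I).app ⊤
      (res ((Scheme.Modules.pullback j).obj ((Scheme.Modules.pullback Δ).obj I)) hle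
        (OmegaSh.pullSect j ((Scheme.Modules.pullback Δ).obj I) (Δ ⁻¹ᵁ N)
          (OmegaSh.pullSect Δ I N s))) =
      res ((Scheme.Modules.pullback (j ≫ Δ)).obj I) hle (OmegaSh.pullSect (j ≫ Δ) I N s) := by
    rw [← pullbackComp_hom_pullSect]
    exact (app_res ((Scheme.Modules.pullbackComp j Δ).hom.app I) hle _).symm
  have h2 : ((Scheme.Modules.pullbackCongr hΔ).hom.app I).app ⊤
      (res ((Scheme.Modules.pullback (j ≫ Δ)).obj I) hle (OmegaSh.pullSect (j ≫ Δ) I N s)) =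
      res ((Scheme.Modules.pullback (μ ≫ g)).obj I) hleμ (OmegaSh.pullSect (μ ≫ g) I N s) := by
    refine (app_res ((Scheme.Modules.pullbackCongr hΔ).hom.app I) hle _).symm.trans ?_
    refine (congrArg _ (pullbackCongr_hom_pullSect hΔ I N s)).trans ?_
    exact res_res _ _ _ _
  have h3 : ((Scheme.Modules.pullbackComp μ g).inv.app I).app ⊤
      (res ((Scheme.Modules.pullback (μ ≫ g)).obj I) hleμ (OmegaSh.pullSect (μ ≫ g) I N s)) =
      OmegaSh.pullSect μ ((Scheme.Modules.pullback g).obj I) ⊤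
        (res ((Scheme.Modules.pullback g).obj I) hg (OmegaSh.pullSect g I N s)) := by
    rw [← pullbackComp_hom_pullSect]
    refine (app_res ((Scheme.Modules.pullbackComp μ g).inv.app I) hleμ _).symm.trans ?_
    refine (congrArg _ (congr(($((Scheme.Modules.pullbackComp μ g).hom_inv_id_app I)).app
      (μ ⁻¹ᵁ (g ⁻¹ᵁ N)) _))).trans ?_
    exact (OmegaSh.pullSect_map μ _ hg _).symm
  have h4 : ((Scheme.Modules.restrictFunctorIsoPullback g).inv.app I).app ⊤
      (res ((Scheme.Modules.pullback g).obj I) hg (OmegaSh.pullSect g I N s)) = res I hgN s := by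
    rw [← restrictIso_hom_pullSect]
    refine (app_res ((Scheme.Modules.restrictFunctorIsoPullback g).inv.app I) hg _).symm.trans ?_
    refine (congrArg _ (congr(($((Scheme.Modules.restrictFunctorIsoPullback g).hom_inv_id_app I)).app
      (g ⁻¹ᵁ N) _))).trans ?_
    exact res_res I (g.image_mono hg) (g.image_preimage_le N) s
  simp only [sqMap, Scheme.Modules.Hom.comp_app, ConcreteCategory.comp_apply]
  let F3 := ((Scheme.Modules.pullback μ).map
    ((Scheme.Modules.restrictFunctorIsoPullback g).inv.app I ≫ e)).app ⊤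
  let F2 := ((Scheme.Modules.pullbackComp μ g).inv.app I).app ⊤
  let F1 := ((Scheme.Modules.pullbackCongr hΔ).hom.app I).app ⊤
  refine (congrArg (fun x ↦ F3 (F2 (F1 x))) h1).trans ?_
  refine (congrArg (fun x ↦ F3 (F2 x)) h2).trans ?_
  refine (congrArg (fun x ↦ F3 x) h3).trans ?_
  refine (app_pullSect μ _ ⊤ _).trans ?_
  exact congrArg (fun x ↦ OmegaSh.pullSect μ Q ⊤ (e.app ⊤ x)) h4

/-- The same, continued to the tilde of a base-changed module. -/
lemma pullSect_square_tilde {B A : CommRingCat.{u}} (φ : B ⟶ A) {X P : Scheme.{u}} (j : Spec A ⟶ X)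
    (Δ : X ⟶ P) (g : Spec B ⟶ P) [IsOpenImmersion g] (hΔ : j ≫ Δ = Spec.map φ ≫ g)
    (I : P.Modules) (N : P.Opens) (s : Γ(I, N))
    (hle : ⊤ ≤ j ⁻¹ᵁ (Δ ⁻¹ᵁ N)) (hg : ⊤ ≤ g ⁻¹ᵁ N) (hgN : g ''ᵁ ⊤ ≤ N)
    (M : ModuleCat.{u} B) (e : I.restrict g ⟶ tilde M) (c : M)
    (he : e.app ⊤ (res I hgN s) = tilde.toOpen M ⊤ c) (Ω : ModuleCat.{u} A)
    (q : (ModuleCat.extendScalars.{u, u, u} φ.hom).obj M ⟶ Ω) (d : Ω)
    (hd : q ((ModuleCat.extendRestrictScalarsAdj.{u, u, u} φ.hom).unit.app M c) = d) :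
    (sqMap j Δ (Spec.map φ) g hΔ I e ≫ (pullbackTildeIso φ).hom.app M ≫ (tilde.functor A).map q).app ⊤
      (res ((Scheme.Modules.pullback j).obj ((Scheme.Modules.pullback Δ).obj I)) hle
        (OmegaSh.pullSect j ((Scheme.Modules.pullback Δ).obj I) (Δ ⁻¹ᵁ N)
          (OmegaSh.pullSect Δ I N s))) = tilde.toOpen Ω ⊤ d := by
  simp only [Scheme.Modules.Hom.comp_app, ConcreteCategory.comp_apply]
  let F2 := ((tilde.functor A).map q).app ⊤
  let F1 := ((pullbackTildeIso φ).hom.app M).app ⊤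
  refine (congrArg (fun x ↦ F2 (F1 x))
    ((pullSect_square j Δ (Spec.map φ) g hΔ I N s hle hg hgN e).trans
      (congrArg _ he))).trans ?_
  refine (congrArg F2 (pullbackTildeIso_hom_pullSect φ M c)).trans ?_
  exact (tildeMap_app_toOpen q _).trans (congrArg _ hd)

/-- Functions pulled back along `Spec q` followed by an open immersion. -/
lemma appLE_specMap_comp {A B : CommRingCat.{u}} {X : Scheme.{u}} (j : Spec A ⟶ X) (q : A ⟶ B)
    (U : X.Opens) (htop : ⊤ ≤ j ⁻¹ᵁ U) (Φ : Spec B ⟶ X) (hΦ : Φ = Spec.map q ≫ j)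
    (e : ⊤ ≤ Φ ⁻¹ᵁ U) (a : Γ(X, U)) :
    (Scheme.ΓSpecIso B).hom (Φ.appLE U ⊤ e a) = q ((Scheme.ΓSpecIso A).hom (j.appLE U ⊤ htop a)) := by
  subst hΦ
  rw [← Scheme.Hom.appLE_comp_appLE (Spec.map q) j _ ⊤ ⊤ htop le_top, CommRingCat.comp_apply]
  change (Scheme.ΓSpecIso B).hom ((Spec.map q).appLE ⊤ ⊤ _ _) = _
  have h : (Spec.map q).appLE ⊤ ⊤ le_top = (Spec.map q).appTop := by
    rw [Scheme.Hom.appTop, Scheme.Hom.app_eq_appLE]; rfl
  rw [h, ← CommRingCat.comp_apply, Scheme.ΓSpecIso_naturality]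
  rfl

variable (R A : Type u) [CommRing R] [CommRing A] [Algebra R A]

/-- `A ⊗_{A⊗A} I ≅ I/I²`, on elements. -/
lemma exists_extendScalars_iso_kaehler :
    ∃ e : (ModuleCat.extendScalars.{u, u, u} (mulHom R A).hom).obj
      (ModuleCat.of (A ⊗[R] A) (KaehlerDifferential.ideal R A)) ≅ ModuleCat.of A (Ω[A⁄R]),
      ∀ c : KaehlerDifferential.ideal R A,
        e.hom ((ModuleCat.extendRestrictScalarsAdj.{u, u, u} (mulHom R A).hom).unit.app
          (ModuleCat.of (A ⊗[R] A) (KaehlerDifferential.ideal R A)) c) =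
        KaehlerDifferential.fromIdeal R A c := by
  classical
  let μ := (mulHom R A).hom
  let J' : ModuleCat.{u} (A ⊗[R] A) := ModuleCat.of (A ⊗[R] A) (KaehlerDifferential.ideal R A)
  let adj := ModuleCat.extendRestrictScalarsAdj.{u, u, u} μ
  let u' : J' ⟶ (ModuleCat.restrictScalars μ).obj (ModuleCat.of A (Ω[A⁄R])) :=
    ModuleCat.ofHom
      (Y := (ModuleCat.restrictScalars μ).obj (ModuleCat.of A (Ω[A⁄R])))
      { toFun := fun j ↦ KaehlerDifferential.fromIdeal R A j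
        map_add' := fun a b ↦ map_add _ a b
        map_smul' := fun b j ↦ (map_smul (KaehlerDifferential.fromIdeal R A) b j).trans
          (smul_kaehler R A b _) }
  let φ := (adj.homEquiv _ _).symm u'
  let η := adj.unit.app J'
  have hη : ∀ (r : A ⊗[R] A) (j : J'), η (r • j) = μ r • (show (ModuleCat.extendScalars μ).obj J' from η j) :=
    fun r j ↦ η.hom.map_smul r j
  have hker : KaehlerDifferential.ideal R A • (⊤ : Submodule (A ⊗[R] A) J') ≤ LinearMap.ker η.hom := by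
    refine Submodule.smul_le.mpr fun r hr n _ ↦ ?_
    rw [LinearMap.mem_ker]
    refine (hη r n).trans ?_
    rw [show μ r = 0 from hr]
    exact zero_smul A (show (ModuleCat.extendScalars μ).obj J' from η n)
  have hfac : ∀ i j : J', KaehlerDifferential.fromIdeal R A i = KaehlerDifferential.fromIdeal R A j →
      η i = η j := by
    intro i j h
    have h1 : i - j ∈ KaehlerDifferential.ideal R A • (⊤ : Submodule (A ⊗[R] A) J') :=
      (Submodule.Quotient.eq _).mp h
    have h2 : η.hom (i - j) = 0 := hker h1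
    rw [map_sub, sub_eq_zero] at h2
    exact h2
  let σ := Function.surjInv (KaehlerDifferential.fromIdeal_surjective R A)
  have hσ : ∀ ω, KaehlerDifferential.fromIdeal R A (σ ω) = ω := Function.surjInv_eq _
  let v : Ω[A⁄R] →ₗ[A] (ModuleCat.extendScalars μ).obj J' :=
    { toFun := fun ω ↦ η (σ ω)
      map_add' := fun a b ↦ by
        rw [hfac (σ (a + b)) (σ a + σ b) ((hσ _).trans (((map_add _ _ _).trans
          (congrArg₂ (· + ·) (hσ a) (hσ b))).symm))]
        exact map_add η.hom _ _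
      map_smul' := fun a ω ↦ by
        rw [hfac (σ (a • ω)) ((a ⊗ₜ[R] (1 : A)) • σ ω) ((hσ _).trans ((map_smul _ _ _).trans
          (((congrArg _ (hσ ω)).trans (smul_kaehler R A _ ω)).trans (by simp))).symm)]
        refine (hη _ _).trans ?_
        rw [show μ (a ⊗ₜ[R] (1 : A)) = a from
          (Algebra.TensorProduct.lmul'_apply_tmul (R := R) (S := A) a 1).trans (mul_one a)]
        rfl }
  have hφ : adj.homEquiv _ _ φ = u' := Equiv.apply_symm_apply _ _
  have hφη : ∀ c : J', φ.hom (η c) = KaehlerDifferential.fromIdeal R A c := by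
    intro c
    have h := congr($hφ c)
    rw [Adjunction.homEquiv_unit] at h
    exact h
  refine ⟨⟨φ, ModuleCat.ofHom v, ?_, ?_⟩, hφη⟩
  · apply (adj.homEquiv J' _).injective
    rw [adj.homEquiv_naturality_right, hφ, adj.homEquiv_id]
    ext j
    exact hfac _ _ (hσ _)
  · refine ModuleCat.hom_ext (LinearMap.ext fun (ω : Ω[A⁄R]) ↦ ?_)
    exact (hφη (σ ω)).trans (hσ ω)

variable {X Y : Scheme.{u}} (f : X ⟶ Y) [QuasiSeparated f]

set_option maxHeartbeats 1600000 in
/-- Over an affine piece `j : Spec A ⟶ X` above `v : Spec R ⟶ Y` the sections of the sheaf of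
differentials are `Ω[A⁄R]`, the derivation becoming `D`. -/
theorem exists_sectEquiv_omega (v : Spec (CommRingCat.of R) ⟶ Y) [Mono v]
    (j : Spec (CommRingCat.of A) ⟶ X) [IsOpenImmersion j]
    (w : Spec.map (CommRingCat.ofHom (algebraMap R A)) ≫ v = j ≫ f)
    (U : X.Opens) (hU : j ''ᵁ ⊤ = U) :
    ∃ (ψ : Γ(X, U) →+* A) (T : Γ(Omega.sheaf f, U) →+ Ω[A⁄R]),
      ψ = (j.appLE U ⊤ (by rw [← hU, j.preimage_image_eq]) ≫ (Scheme.ΓSpecIso _).hom).hom ∧
      Function.Bijective ψ ∧ Function.Bijective T ∧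
      (∀ (a : Γ(X, U)) (m : Γ(Omega.sheaf f, U)), T (a • m) = ψ a • T m) ∧
      ∀ a : Γ(X, U), T (OmegaSh.dSect f U a) = KaehlerDifferential.D R A (ψ a) := by
  subst hU
  let fs := Spec.map (CommRingCat.ofHom (algebraMap R A))
  let P := pullback f f
  let Δ := pullback.diagonal f
  let g : Spec (CommRingCat.of (A ⊗[R] A)) ⟶ P :=
    (pullbackSpecIso R A A).inv ≫ pullback.map fs fs f f j j v w w
  have hgfst : g ≫ pullback.fst f f = Spec.map (CommRingCat.ofHom
      (Algebra.TensorProduct.includeLeftRingHom : A →+* A ⊗[R] A)) ≫ j := by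
    simp [g, fs]
  have hgsnd : g ≫ pullback.snd f f = Spec.map (CommRingCat.ofHom
      (Algebra.TensorProduct.includeRight : A →ₐ[R] A ⊗[R] A).toRingHom) ≫ j := by
    simp [g, fs]
  have hΔ : j ≫ Δ = Spec.map (mulHom R A) ≫ g := by
    apply pullback.hom_ext
    · rw [Category.assoc, Category.assoc, pullback.diagonal_fst, hgfst, ← Spec.map_comp_assoc]
      convert (Category.comp_id j).trans (Category.id_comp j).symm using 2
      rw [← Spec.map_id]
      congr 1
      ext a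
      exact (Algebra.TensorProduct.lmul'_apply_tmul (R := R) (S := A) a 1).trans (mul_one a)
    · rw [Category.assoc, Category.assoc, pullback.diagonal_snd, hgsnd, ← Spec.map_comp_assoc]
      convert (Category.comp_id j).trans (Category.id_comp j).symm using 2
      rw [← Spec.map_id]
      congr 1
      ext a
      exact (Algebra.TensorProduct.lmul'_apply_tmul (R := R) (S := A) 1 a).trans (one_mul a)
  -- the ideal of the diagonal on the affine piece
  let W := g ''ᵁ ⊤
  have hW : IsAffineOpen W := (isAffineOpen_top _).image_of_isOpenImmersion g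
  have hpre : Δ ⁻¹ᵁ W = j ''ᵁ ⊤ := by
    apply le_antisymm
    · intro x hx
      obtain ⟨z, -, hz⟩ := hx
      refine ⟨Spec.map (CommRingCat.ofHom
        (Algebra.TensorProduct.includeLeftRingHom : A →+* A ⊗[R] A)) z, trivial, ?_⟩
      have h1 : pullback.fst f f (Δ x) = x := by
        rw [← Scheme.Hom.comp_apply, pullback.diagonal_fst]; rfl
      show j (Spec.map _ z) = x
      rw [← h1, ← hz]
      show _ = pullback.fst f f (g z)
      rw [← Scheme.Hom.comp_apply, ← Scheme.Hom.comp_apply, hgfst]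
    · rintro x ⟨y, -, rfl⟩
      refine ⟨Spec.map (mulHom R A) y, trivial, ?_⟩
      show g (Spec.map (mulHom R A) y) = Δ (j y)
      rw [← Scheme.Hom.comp_apply, ← hΔ]
      rfl
  obtain ⟨e₁, he₁⟩ := exists_restrict_idealMod_iso g Δ.ker (KaehlerDifferential.ideal R A) (by
    intro t
    rw [Scheme.Hom.ker_apply, RingHom.mem_ker]
    change Δ.app W t = 0 ↔ mulHom R A ((Scheme.ΓSpecIso _).hom ((g.appIso ⊤).hom t)) = 0
    rw [app_eq_zero_iff Δ W _ hpre,
      ← map_eq_zero_iff (j.appIso ⊤).hom.hom (j.appIso ⊤).commRingCatIsoToRingEquiv.injective,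
      ← map_eq_zero_iff (Scheme.ΓSpecIso _).hom.hom
        (Scheme.ΓSpecIso (CommRingCat.of A)).commRingCatIsoToRingEquiv.injective]
    have h2 : ∀ (Φ : Spec (CommRingCat.of A) ⟶ P) (_ : Φ = Spec.map (mulHom R A) ≫ g)
        (e : ⊤ ≤ Φ ⁻¹ᵁ W), Φ.appLE W ⊤ e t =
          (Spec.map (mulHom R A)).appTop ((g.appIso ⊤).hom t) := by
      intro Φ hΦ e
      subst hΦ
      rw [← Scheme.Hom.appLE_comp_appLE (Spec.map (mulHom R A)) g W ⊤ ⊤
        (g.preimage_image_eq ⊤).ge le_top, ← Scheme.Hom.appIso_hom']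
      change (Spec.map (mulHom R A)).appLE ⊤ ⊤ _ _ = (Spec.map (mulHom R A)).app ⊤ _
      rw [Scheme.Hom.app_eq_appLE]
      rfl
    have h3 : (j.appIso ⊤).hom (Δ.appLE W (j ''ᵁ ⊤) hpre.ge t) =
        (Spec.map (mulHom R A)).appTop ((g.appIso ⊤).hom t) := by
      rw [Scheme.Hom.appIso_hom', ← CommRingCat.comp_apply, Scheme.Hom.appLE_comp_appLE]
      exact h2 _ hΔ _
    change (Scheme.ΓSpecIso _).hom ((j.appIso ⊤).hom (Δ.appLE W (j ''ᵁ ⊤) hpre.ge t)) = 0 ↔ _
    rw [h3, ← CommRingCat.comp_apply, Scheme.ΓSpecIso_naturality, CommRingCat.comp_apply])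
  obtain ⟨e₂, he₂⟩ := exists_extendScalars_iso_kaehler R A
  let μ := Spec.map (mulHom R A)
  let I := ClSub.idealMod Δ.ker
  haveI : IsIso (sqMap j Δ μ g hΔ I e₁.hom) := inferInstance
  let φ : (Scheme.Modules.pullback j).obj (Omega.sheaf f) ⟶
      tilde (R := CommRingCat.of A) (ModuleCat.of A (Ω[A⁄R])) :=
    sqMap j Δ μ g hΔ I e₁.hom ≫
      (pullbackTildeIso (mulHom R A)).hom.app _ ≫ (tilde.functor _).map e₂.hom
  haveI : IsIso φ := IsIso.comp_isIso' (by assumption) inferInstance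
  let E := asIso φ
  let Ω' := ModuleCat.of A (Ω[A⁄R])
  let L := (tilde.isoTop (R := CommRingCat.of A) Ω').toLinearEquiv
  let M := Omega.sheaf f
  have htop : ⊤ ≤ j ⁻¹ᵁ (j ''ᵁ ⊤) := (j.preimage_image_eq ⊤).ge
  let T : Γ(M, j ''ᵁ ⊤) →+ Ω[A⁄R] :=
    (L.symm.toAddEquiv.toAddMonoidHom.comp (E.hom.app ⊤).hom).comp
      ((res ((Scheme.Modules.pullback j).obj M) htop).comp
        (OmegaSh.pullSect j M (j ''ᵁ ⊤)).hom)
  refine ⟨_, T, rfl, ?_, ?_, ?_, ?_⟩
  · rw [← Scheme.Hom.appIso_hom']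
    exact ConcreteCategory.bijective_of_isIso ((j.appIso ⊤).hom ≫ (Scheme.ΓSpecIso _).hom)
  · exact (L.symm.bijective.comp (ConcreteCategory.bijective_of_isIso (E.hom.app ⊤))).comp
      (bijective_res_pullSect j M htop)
  · intro a m
    apply L.injective
    refine Eq.trans ?_ (L.map_smul _ _).symm
    change L (L.symm (E.hom.app ⊤ (res _ htop (OmegaSh.pullSect j M _ (a • m))))) =
      _ • L (L.symm (E.hom.app ⊤ (res _ htop (OmegaSh.pullSect j M _ m))))
    rw [L.apply_symm_apply, L.apply_symm_apply, OmegaSh.pullSect_smul, res_smul,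
      Scheme.Modules.Hom.app_smul]
    refine Eq.trans ?_ (Scheme.Modules.smul_Spec_def _ _).symm
    congr 1
    change _ = ((Spec (CommRingCat.of A)).presheaf.map (⊤ : (Spec (CommRingCat.of A)).Opens).leTop.op)
      ((Scheme.ΓSpecIso _).inv ((Scheme.ΓSpecIso _).hom (j.appLE _ ⊤ _ a)))
    rw [Iso.hom_inv_id_apply, show (⊤ : (Spec (CommRingCat.of A)).Opens).leTop.op = 𝟙 _ from rfl,
      CategoryTheory.Functor.map_id]
    rfl
  · intro a
    apply L.injective
    change L (L.symm (E.hom.app ⊤ (res _ htop (OmegaSh.pullSect j M _ (OmegaSh.dSect f _ a))))) = _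
    rw [L.apply_symm_apply]
    let N := OmegaSh.diagNbhd f (j ''ᵁ ⊤)
    let s := OmegaSh.idealLift f (j ''ᵁ ⊤) a
    have hle₁ : ⊤ ≤ g ⁻¹ᵁ N := by
      intro z _
      constructor
      · refine ⟨Spec.map (CommRingCat.ofHom
          (Algebra.TensorProduct.includeLeftRingHom : A →+* A ⊗[R] A)) z, trivial, ?_⟩
        show j (Spec.map _ z) = pullback.fst f f (g z)
        rw [← Scheme.Hom.comp_apply, ← hgfst]
        rfl
      · refine ⟨Spec.map (CommRingCat.ofHom
          (Algebra.TensorProduct.includeRight : A →ₐ[R] A ⊗[R] A).toRingHom) z, trivial, ?_⟩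
        show j (Spec.map _ z) = pullback.snd f f (g z)
        rw [← Scheme.Hom.comp_apply, ← hgsnd]
        rfl
    have hle₂ : g ''ᵁ ⊤ ≤ N := (g.image_mono hle₁).trans (g.image_preimage_le N)
    have hle : ⊤ ≤ j ⁻¹ᵁ (Δ ⁻¹ᵁ N) :=
      htop.trans (j.preimage_mono (OmegaSh.le_preimage_diagNbhd f _))
    have step1 : res ((Scheme.Modules.pullback j).obj M) htop
        (OmegaSh.pullSect j M _ (OmegaSh.dSect f _ a)) =
        res ((Scheme.Modules.pullback j).obj ((Scheme.Modules.pullback Δ).obj I)) hle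
          (OmegaSh.pullSect j ((Scheme.Modules.pullback Δ).obj I) (Δ ⁻¹ᵁ N)
            (OmegaSh.pullSect Δ I N s)) := by
      change res ((Scheme.Modules.pullback j).obj ((Scheme.Modules.pullback Δ).obj I)) htop
        (OmegaSh.pullSect j ((Scheme.Modules.pullback Δ).obj I) _
          (((Scheme.Modules.pullback Δ).obj I).presheaf.map
            (homOfLE (OmegaSh.le_preimage_diagNbhd f (j ''ᵁ ⊤))).op (OmegaSh.pullSect Δ I N s))) = _
      rw [OmegaSh.pullSect_map]
      exact res_res _ _ _ _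
    rw [step1]
    obtain ⟨c, hc, he⟩ := he₁ (res I hle₂ s)
    refine pullSect_square_tilde (mulHom R A) j Δ g hΔ I N s hle hle₁ hle₂ _ e₁.hom c he Ω' e₂.hom _
      ((he₂ c).trans ?_)
    refine (congrArg _ (Subtype.ext ?_)).trans (KaehlerDifferential.D_apply ..).symm
    have h5 : (ClSub.idealModι Δ.ker).app (g ''ᵁ ⊤) (res I hle₂ s) =
        (Coh.structureModule P).presheaf.map (homOfLE hle₂).op
          (OmegaSh.strSect P N (OmegaSh.diagDiff f (j ''ᵁ ⊤) a)) :=
      (OmegaSh.idealModι_app_map N Δ.ker hle₂ s).trans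
        (congrArg _ (OmegaSh.ι_idealLift f (j ''ᵁ ⊤) a))
    refine hc.trans ((congrArg (fun x : Γ(P, g ''ᵁ ⊤) ↦
      (Scheme.ΓSpecIso _).hom ((g.appIso ⊤).hom x)) h5).trans ?_)
    change (Scheme.ΓSpecIso _).hom ((g.appIso ⊤).hom (P.presheaf.map (homOfLE hle₂).op
      (OmegaSh.diagDiff f (j ''ᵁ ⊤) a))) = _
    rw [Scheme.Hom.appIso_hom', OmegaSh.diagDiff, map_sub, map_sub, map_sub]
    have h6 : ∀ (q : P ⟶ X) (e : N ≤ q ⁻¹ᵁ (j ''ᵁ ⊤)) (e' : ⊤ ≤ g ⁻¹ᵁ (g ''ᵁ ⊤)),
        g.appLE (g ''ᵁ ⊤) ⊤ e' (P.presheaf.map (homOfLE hle₂).op (q.appLE (j ''ᵁ ⊤) N e a)) =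
        (g ≫ q).appLE (j ''ᵁ ⊤) ⊤ ((e'.trans (g.preimage_mono hle₂)).trans (g.preimage_mono e)) a := by
      intro q e e'
      simp only [← CommRingCat.comp_apply]
      rw [Category.assoc, Scheme.Hom.map_appLE, Scheme.Hom.appLE_comp_appLE]
    rw [h6, h6]
    congr 1
    · exact appLE_specMap_comp j _ _ htop _ hgsnd _ a
    · exact appLE_specMap_comp j _ _ htop _ hgfst _ a

end Groth.Agent.QC
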