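import Groth.Agent.QC.Extend
import Groth.Agent.QC.IdealMod
import Groth.Agent.QC.FiniteType
/-!
# Finite type ideals cutting out the complement of a quasi-compact open
-/

universe u

open CategoryTheory CategoryTheory.Limits AlgebraicGeometry TopologicalSpace Opposite

set_option backward.isDefEq.respectTransparency false

noncomputable section

namespace Groth.Agent.QC

variable {X : Scheme.{u}} {F : X.Modules}

/-- Extension to a quasi-compact quasi-separated scheme. -/
theorem exists_extend_qcqs [CompactSpace X] [QuasiSeparatedSpace X] [hF : F.IsQuasicoherent]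
    (S : Sub F) {W : X.Opens} (hS : LocFinGen S W) (hW : IsCompact (W : Set X)) :
    ∃ S' : Sub F, LocFinGen S' ⊤ ∧ ∀ O ≤ W, S'.obj O = S.obj O := by
  classical
  have key : ∀ t : Finset X.affineOpens, ∃ (W' : X.Opens) (S' : Sub F), W ≤ W' ∧
      (∀ V ∈ t, V.1 ≤ W') ∧ IsCompact (W' : Set X) ∧ LocFinGen S' W' ∧
      ∀ O ≤ W, S'.obj O = S.obj O := by
    intro t
    induction t using Finset.induction_on with
    | empty => exact ⟨W, S, le_rfl, by simp, hW, hS, fun _ _ => rfl⟩
    | insert V t _ ih =>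
      obtain ⟨W', S', h1, h2, h3, h4, h5⟩ := ih
      have hc : IsCompact ((W' ⊓ V.1 : X.Opens) : Set X) :=
        QuasiSeparatedSpace.inter_isCompact _ _ W'.2 h3 V.1.2 V.2.isCompact
      obtain ⟨S'', hg, he⟩ := exists_extend_affine S' h4 V.2 hc
      refine ⟨W' ⊔ V.1, S'', h1.trans le_sup_left, fun V' hV' => ?_, ?_, hg,
        fun O hO => (he O (hO.trans h1)).trans (h5 O hO)⟩
      · rcases Finset.mem_insert.mp hV' with rfl | h
        · exact le_sup_right
        · exact (h2 V' h).trans le_sup_left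
      · rw [Opens.coe_sup]; exact h3.union V.2.isCompact
  obtain ⟨t, ht⟩ := isCompact_univ.elim_finite_subcover (fun V : X.affineOpens => (V.1 : Set X))
    (fun V => V.1.2) (fun x _ => by
      obtain ⟨V, hV, hxV, -⟩ := exists_isAffineOpen_mem_and_subset (x := x) (U := ⊤) trivial
      exact Set.mem_iUnion.mpr ⟨⟨V, hV⟩, hxV⟩)
  obtain ⟨W', S', -, h2, -, h4, h5⟩ := key t
  have htop : W' = ⊤ := top_le_iff.mp fun x _ => by
    obtain ⟨V, hV, hxV⟩ := Set.mem_iUnion₂.mp (ht (Set.mem_univ x))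
    exact h2 V hV hxV
  exact ⟨S', htop ▸ h4, h5⟩

/-- All sections. -/
def topSub (F : X.Modules) : Sub F where
  obj _ := ⊤
  res_mem _ _ _ := Submodule.mem_top
  local' _ _ := Submodule.mem_top

lemma genOn_topSub [hF : F.IsQuasicoherent] {D : X.Opens} (hD : IsAffineOpen D) (T : Set Γ(F, D))
    (hT : Submodule.span Γ(X, D) T = ⊤) : GenOn (topSub F) D T where
  mem _ _ := Submodule.mem_top
  le O hO s _ x hx _ := by
    obtain ⟨f, hf, hxf⟩ := hD.exists_basicOpen_le ⟨x, hx⟩ (hO hx)
    exact ⟨X.basicOpen f, hf, X.basicOpen_le f, hxf, mem_span_basicOpen hD f hT _⟩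

/-- The ideal sections of the sections of a submodule of the structure sheaf. -/
def idealOf {J : X.Modules} (i : J ⟶ Coh.structureModule X) (V : X.Opens) : Ideal Γ(X, V) where
  carrier := {c | ∃ a, i.app V a = c}
  zero_mem' := ⟨0, map_zero _⟩
  add_mem' := by rintro _ _ ⟨a, rfl⟩ ⟨b, rfl⟩; exact ⟨a + b, map_add _ _ _⟩
  smul_mem' := by rintro c _ ⟨a, rfl⟩; exact ⟨c • a, Scheme.Modules.Hom.app_smul _ _ _⟩

/-- A quasi-coherent submodule of the structure sheaf gives an ideal sheaf. -/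
def idealSheafOf {J : X.Modules} (i : J ⟶ Coh.structureModule X) [hJ : J.IsQuasicoherent] :
    X.IdealSheafData where
  ideal V := idealOf i V.1
  map_ideal_basicOpen V f := by
    apply le_antisymm
    · rw [Ideal.map_le_iff_le_comap]
      rintro _ ⟨a, rfl⟩
      exact ⟨res J (X.basicOpen_le f) a, (app_res i _ a).symm⟩
    · rintro c ⟨a, hac⟩
      obtain ⟨n, s, hs⟩ := (isLoc_of_isQCoh V.2 (M := J)).exists_extend f a
      have hu : IsUnit (resO X (X.basicOpen_le f) f ^ n) := (isUnit_resO_basicOpen V.2 f).pow n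
      rw [← hac]
      refine (Ideal.unit_mul_mem_iff_mem _ hu).mp ?_
      have e : HMul.hMul (α := Γ(X, X.basicOpen f)) (β := Γ(X, X.basicOpen f)) (γ := Γ(X, X.basicOpen f))
          (resO X (X.basicOpen_le f) f ^ n) (i.app (X.basicOpen f) a) =
          resO X (X.basicOpen_le f) (i.app V.1 s) := by
        refine Eq.trans ?_ (app_res i (X.basicOpen_le f) s).symm
        rw [hs, Scheme.Modules.Hom.app_smul]
        rfl
      refine (congrArg (fun z : Γ(X, X.basicOpen f) => z ∈ Ideal.map (X.presheaf.map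
        (homOfLE (X.basicOpen_le f)).op).hom (idealOf i V.1)) e).mpr ?_
      exact Ideal.mem_map_of_mem _ ⟨s, rfl⟩

/-- The complement of a quasi-compact open is cut out by a finite type ideal. -/
theorem exists_ftIdeal [CompactSpace X] [QuasiSeparatedSpace X] (U : X.Opens)
    (hU : IsCompact (U : Set X)) :
    ∃ (I : X.IdealSheafData) (J : X.Modules) (i : J ⟶ Coh.structureModule X),
      Mono i ∧ Coh.IsQCoh J ∧ CohB1.IsFT J ∧ (∀ V : X.affineOpens, I.ideal V = idealOf i V.1) ∧
      (∀ V : X.affineOpens, (I.ideal V).FG) ∧ (I.support : Set X) = (U : Set X)ᶜ := by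
  classical
  let Z : Closeds X := ⟨(U : Set X)ᶜ, U.2.isClosed_compl⟩
  let P := Scheme.IdealSheafData.vanishingIdeal Z
  have hP : (P.support : Set X) = (U : Set X)ᶜ := by
    rw [Scheme.IdealSheafData.coe_support_vanishingIdeal]
    rfl
  have hPU : ∀ (V : X.affineOpens), V.1 ≤ U → (1 : Γ(X, V.1)) ∈ P.ideal V := fun V hVU => by
    by_contra h
    obtain ⟨m, hm, hPm⟩ := Ideal.exists_le_maximal (P.ideal V) (fun e => h (by rw [e]; trivial))
    let p : PrimeSpectrum Γ(X, V.1) := ⟨m, hm.isPrime⟩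
    have hxV : V.2.fromSpec p ∈ V.1 := by
      rw [← SetLike.mem_coe, ← IsAffineOpen.range_fromSpec V.2]
      exact ⟨p, rfl⟩
    have : V.2.fromSpec p ∈ (P.support : Set X) := by
      rw [SetLike.mem_coe, Scheme.IdealSheafData.mem_support_iff_of_mem hxV,
        Scheme.mem_zeroLocus_iff]
      intro c hc hcx
      have : p ∈ V.2.fromSpec ⁻¹ᵁ X.basicOpen c := hcx
      rw [IsAffineOpen.fromSpec_preimage_basicOpen, PrimeSpectrum.mem_basicOpen] at this
      exact this (hPm hc)
    rw [hP] at this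
    exact this (hVU hxV)
  let F := ClSub.idealMod P
  haveI hF : F.IsQuasicoherent := isQCoh_idealMod P
  have hloc : LocFinGen (topSub F) U := fun x hx => by
    obtain ⟨D, hD, hxD, hDU⟩ := exists_isAffineOpen_mem_and_subset hx
    obtain ⟨e, he⟩ := (mem_range_idealModι_affine P ⟨D, hD⟩ 1).mpr (hPU ⟨D, hD⟩ hDU)
    refine ⟨D, hD, hxD, hDU, {e}, genOn_topSub hD _ (eq_top_iff.mpr fun y _ => ?_)⟩
    rw [Finset.coe_singleton, Submodule.mem_span_singleton]
    let c : Γ(X, D) := (ClSub.idealModι P).app D y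
    refine ⟨c, app_injective_of_mono (ClSub.idealModι P) D ?_⟩
    rw [Scheme.Modules.Hom.app_smul, he]
    exact mul_one (M := Γ(X, D)) _
  obtain ⟨S, hS, hSU⟩ := exists_extend_qcqs (topSub F) hloc hU
  obtain ⟨hq, hft⟩ := Sub.isCoh_toModules hS
  haveI : S.toModules.IsQuasicoherent := hq
  let i := S.ι ≫ ClSub.idealModι P
  refine ⟨idealSheafOf i, S.toModules, i, inferInstance, hq, hft, fun _ => rfl, fun V => ?_, ?_⟩
  · haveI := finite_sections V.2 (M := S.toModules) hft
    obtain ⟨T, hT⟩ := Module.Finite.fg_top (R := Γ(X, V.1)) (M := Γ(S.toModules, V.1))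
    refine ⟨T.image (fun a => (i.app V.1 a : Γ(X, V.1))), le_antisymm (Ideal.span_le.mpr ?_) ?_⟩
    · intro c hc
      obtain ⟨a, -, rfl⟩ := Finset.mem_image.mp hc
      exact ⟨a, rfl⟩
    · rintro _ ⟨a, rfl⟩
      have ha : a ∈ Submodule.span Γ(X, V.1) (T : Set Γ(S.toModules, V.1)) := hT ▸ Submodule.mem_top
      induction ha using Submodule.span_induction with
      | mem a ha => exact Ideal.subset_span (Finset.mem_image.mpr ⟨a, ha, rfl⟩)
      | zero => rw [map_zero]; exact Submodule.zero_mem _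
      | add a b _ _ ha hb => rw [map_add]; exact Submodule.add_mem _ ha hb
      | smul c a _ ha => rw [Scheme.Modules.Hom.app_smul]; exact Submodule.smul_mem _ c ha
  · refine Set.ext fun x => ⟨fun hx hxU => ?_, fun hx => ?_⟩
    · obtain ⟨D, hD, hxD, hDU⟩ := exists_isAffineOpen_mem_and_subset (show x ∈ U from hxU)
      obtain ⟨e, he⟩ := (mem_range_idealModι_affine P ⟨D, hD⟩ 1).mpr (hPU ⟨D, hD⟩ hDU)
      obtain ⟨a, ha⟩ := (S.range_ι_app D e).mpr ((hSU D hDU).symm ▸ Submodule.mem_top)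
      rw [SetLike.mem_coe, Scheme.IdealSheafData.mem_support_iff_of_mem (U := ⟨D, hD⟩) hxD,
        Scheme.mem_zeroLocus_iff] at hx
      refine hx 1 ⟨a, ?_⟩ (by rw [X.basicOpen_of_isUnit isUnit_one]; exact hxD)
      change (ClSub.idealModι P).app D (S.ι.app D a) = _
      rw [ha, he]
    · refine Scheme.IdealSheafData.support_antitone (a := idealSheafOf i) (b := P) ?_ (hP.ge hx)
      intro V
      rintro _ ⟨a, rfl⟩
      exact (mem_range_idealModι_affine P V _).mp ⟨_, rfl⟩

/-- The complement of the support of a finite type ideal is quasi-compact. -/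
theorem isCompact_compl_support [CompactSpace X] (I : X.IdealSheafData)
    (hI : ∀ V : X.affineOpens, (I.ideal V).FG) : IsCompact (I.support : Set X)ᶜ := by
  have hloc : ∀ V : X.affineOpens, IsCompact ((I.support : Set X)ᶜ ∩ V.1) := fun V => by
    obtain ⟨T, hT⟩ := hI V
    have e : (I.support : Set X)ᶜ ∩ V.1 = ⋃ c ∈ T, (X.basicOpen c : Set X) := by
      ext x
      simp only [Set.mem_inter_iff, Set.mem_compl_iff, SetLike.mem_coe, Set.mem_iUnion]
      refine ⟨fun ⟨hx, hxV⟩ => ?_, fun ⟨c, hc, hxc⟩ => ⟨fun hx => ?_, X.basicOpen_le c hxc⟩⟩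
      · rw [Scheme.IdealSheafData.mem_support_iff_of_mem hxV, ← hT, Scheme.zeroLocus_span,
          Scheme.mem_zeroLocus_iff] at hx
        push Not at hx
        obtain ⟨c, hc, hxc⟩ := hx
        exact ⟨c, hc, hxc⟩
      · rw [Scheme.IdealSheafData.mem_support_iff_of_mem (X.basicOpen_le c hxc), ← hT,
          Scheme.zeroLocus_span, Scheme.mem_zeroLocus_iff] at hx
        exact hx c hc hxc
    rw [e]
    exact T.isCompact_biUnion fun c _ => (V.2.basicOpen c).isCompact
  obtain ⟨t, ht⟩ := isCompact_univ.elim_finite_subcover (fun V : X.affineOpens => (V.1 : Set X))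
    (fun V => V.1.2) (fun x _ => by
      obtain ⟨V, hV, hxV, -⟩ := exists_isAffineOpen_mem_and_subset (x := x) (U := ⊤) trivial
      exact Set.mem_iUnion.mpr ⟨⟨V, hV⟩, hxV⟩)
  have e : (I.support : Set X)ᶜ = ⋃ V ∈ t, ((I.support : Set X)ᶜ ∩ V.1) := by
    refine Set.ext fun x => ⟨fun hx => ?_, fun hx => ?_⟩
    · obtain ⟨V, hV, hxV⟩ := Set.mem_iUnion₂.mp (ht (Set.mem_univ x))
      exact Set.mem_iUnion₂.mpr ⟨V, hV, hx, hxV⟩
    · obtain ⟨V, -, hxV⟩ := Set.mem_iUnion₂.mp hx
      exact hxV.1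
  rw [e]
  exact t.isCompact_biUnion fun V _ => hloc V

end Groth.Agent.QC
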