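import Groth.Agent.QC.Basic
/-!
# Local characterisations of quasi-coherent, finite type and finitely presented modules

`HasPres M U`, `HasFinPres M U`, `HasFinGen M U`: `M.restrict U.ι` has a (finite) presentation,
resp. finitely many generating sections.
-/

universe u

open CategoryTheory CategoryTheory.Limits AlgebraicGeometry TopologicalSpace Opposite

noncomputable section

set_option backward.isDefEq.respectTransparency false

namespace Groth.Agent.QC

variable {X Y : Scheme.{u}} {M N : X.Modules}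

/-- `M|_U` has a presentation. -/
def HasPres (M : X.Modules) (U : X.Opens) : Prop :=
  Nonempty (SheafOfModules.Presentation.{u} (M.restrict U.ι))

/-- `M|_U` has a finite presentation. -/
def HasFinPres (M : X.Modules) (U : X.Opens) : Prop :=
  ∃ P : SheafOfModules.Presentation.{u} (M.restrict U.ι), P.IsFinite

/-- `M|_U` is generated by finitely many sections. -/
def HasFinGen (M : X.Modules) (U : X.Opens) : Prop :=
  ∃ σ : SheafOfModules.GeneratingSections.{u} (M.restrict U.ι), σ.IsFiniteType

lemma isFinite_map {C : Type*} [Category C] {J : GrothendieckTopology C} {R : Sheaf J RingCat.{u}}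
    [HasSheafify J AddCommGrpCat.{u}] [J.WEqualsLocallyBijective AddCommGrpCat.{u}]
    {C' : Type*} [Category C'] {J' : GrothendieckTopology C'} {S : Sheaf J' RingCat.{u}}
    [HasSheafify J' AddCommGrpCat.{u}] [J'.WEqualsLocallyBijective AddCommGrpCat.{u}]
    {M : SheafOfModules.{u} R} (P : M.Presentation) [P.IsFinite]
    (F : SheafOfModules.{u} R ⥤ SheafOfModules.{u} S) [PreservesColimitsOfSize.{u, u} F]
    (η : SheafOfModules.unit S ≅ F.obj (SheafOfModules.unit R)) : (P.map F η).IsFinite where
  isFiniteType_generators := ⟨(inferInstance : Finite P.generators.I)⟩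
  isFiniteType_relations := ⟨(inferInstance : Finite P.relations.I)⟩

/-- A functor on modules matching restrictions, with the unit comparison, transporting structures. -/
structure Transport (M : X.Modules) (U : X.Opens) (V : Y.Opens) (N : Y.Modules) where
  F : (U : Scheme.{u}).Modules ⥤ (V : Scheme.{u}).Modules
  [pres : PreservesColimitsOfSize.{u, u} F]
  η : SheafOfModules.unit (V : Scheme.{u}).ringCatSheaf ≅
    F.obj (SheafOfModules.unit (U : Scheme.{u}).ringCatSheaf)
  iso : F.obj (M.restrict U.ι) ≅ N.restrict V.ι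

namespace Transport

lemma hasPres {U : X.Opens} {V : Y.Opens} {N' : Y.Modules} (T : Transport M U V N') :
    HasPres M U → HasPres N' V := fun ⟨P⟩ ↦
  haveI := T.pres
  ⟨SheafOfModules.Presentation.ofIsIso.{u} T.iso.hom (P.map T.F T.η)⟩

lemma hasFinPres {U : X.Opens} {V : Y.Opens} {N' : Y.Modules} (T : Transport M U V N') :
    HasFinPres M U → HasFinPres N' V := fun ⟨P, hP⟩ ↦
  haveI := T.pres
  haveI := hP
  haveI := isFinite_map P T.F T.η
  ⟨SheafOfModules.Presentation.ofIsIso.{u} T.iso.hom (P.map T.F T.η), inferInstance⟩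

lemma hasFinGen {U : X.Opens} {V : Y.Opens} {N' : Y.Modules} (T : Transport M U V N') :
    HasFinGen M U → HasFinGen N' V := fun ⟨σ, hσ⟩ ↦
  haveI := T.pres
  haveI := hσ
  ⟨(SheafOfModules.GeneratingSections.map σ T.F T.η).ofEpi T.iso.hom, inferInstance⟩

end Transport

/-- Restrict to a smaller open. -/
def transportLE (M : X.Modules) {V U : X.Opens} (h : V ≤ U) : Transport M U V M :=
  haveI : PreservesColimitsOfSize.{u, u} (Scheme.Modules.restrictFunctor (X.homOfLE h)) :=
    inferInstance
  { F := Scheme.Modules.restrictFunctor (X.homOfLE h)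
    η := (Scheme.Modules.restrictUnitIso _).symm
    iso := (Scheme.Modules.restrictFunctorComp (X.homOfLE h) U.ι).symm.app M ≪≫
      (Scheme.Modules.restrictFunctorCongr (by simp)).app M }

lemma HasPres.mono {U V : X.Opens} (h : HasPres M U) (hVU : V ≤ U) : HasPres M V :=
  (transportLE M hVU).hasPres h

lemma HasFinPres.mono {U V : X.Opens} (h : HasFinPres M U) (hVU : V ≤ U) : HasFinPres M V :=
  (transportLE M hVU).hasFinPres h

lemma HasFinGen.mono {U V : X.Opens} (h : HasFinGen M U) (hVU : V ≤ U) : HasFinGen M V :=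
  (transportLE M hVU).hasFinGen h

lemma HasFinPres.hasPres {U : X.Opens} (h : HasFinPres M U) : HasPres M U :=
  ⟨h.choose⟩

lemma HasFinPres.hasFinGen {U : X.Opens} (h : HasFinPres M U) : HasFinGen M U :=
  ⟨h.choose.generators, h.choose_spec.isFiniteType_generators⟩

lemma HasPres.of_iso {U : X.Opens} (h : HasPres M U) (e : M ≅ N) : HasPres N U :=
  ⟨SheafOfModules.Presentation.ofIsIso.{u} ((Scheme.Modules.restrictFunctor U.ι).mapIso e).hom h.some⟩

lemma HasFinGen.of_epi {U : X.Opens} (h : HasFinGen M U) (p : M ⟶ N) [Epi p] : HasFinGen N U := by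
  obtain ⟨σ, hσ⟩ := h
  haveI : Epi ((Scheme.Modules.restrictFunctor U.ι).map p) := Functor.map_epi _ p
  exact ⟨σ.ofEpi (N := N.restrict U.ι) ((Scheme.Modules.restrictFunctor U.ι).map p), inferInstance⟩

/-! ### Between slices and open subschemes -/

section Over

instance (U : X.Opens) :
    PreservesColimitsOfSize.{u, u} (Scheme.Modules.overEquiv U).functor :=
  (Scheme.Modules.overEquiv U).toAdjunction.leftAdjoint_preservesColimits

instance (U : X.Opens) :
    PreservesColimitsOfSize.{u, u} (Scheme.Modules.overEquiv U).inverse :=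
  (Scheme.Modules.overEquiv U).symm.toAdjunction.leftAdjoint_preservesColimits

variable (M) (U : X.Opens)

/-- `(M|_U)` as a slice module and as a module on the open subscheme. -/
def overIso : (Scheme.Modules.overEquiv U).functor.obj (SheafOfModules.over.{u} M U) ≅ M.restrict U.ι :=
  (Scheme.Modules.overFunctorEquiv U).app M

def overInvIso : (Scheme.Modules.overEquiv U).inverse.obj (M.restrict U.ι) ≅ SheafOfModules.over.{u} M U :=
  (Scheme.Modules.overEquiv U).inverse.mapIso (overIso M U).symm ≪≫
    (Scheme.Modules.overEquiv U).unitIso.symm.app _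

/-- The unit comparison for `overEquiv`. -/
def overUnit : SheafOfModules.unit (U : Scheme.{u}).ringCatSheaf ≅
    (Scheme.Modules.overEquiv U).functor.obj (SheafOfModules.unit (X.ringCatSheaf.over U)) :=
  Iso.refl _

/-- The unit comparison for the inverse of `overEquiv`. -/
def overInvUnit : SheafOfModules.unit (X.ringCatSheaf.over U) ≅
    (Scheme.Modules.overEquiv U).inverse.obj (SheafOfModules.unit (U : Scheme.{u}).ringCatSheaf) :=
  (Scheme.Modules.overEquiv U).unitIso.app _ ≪≫
    (Scheme.Modules.overEquiv U).inverse.mapIso (overUnit U).symm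

variable {M U}

def presOfOver (P : (SheafOfModules.over.{u} M U).Presentation) :
    SheafOfModules.Presentation.{u} (M.restrict U.ι) :=
  (P.map (Scheme.Modules.overEquiv U).functor (overUnit U)).ofIsIso (overIso M U).hom

def genOfOver (σ : (SheafOfModules.over.{u} M U).GeneratingSections) :
    SheafOfModules.GeneratingSections.{u} (M.restrict U.ι) :=
  (σ.map (Scheme.Modules.overEquiv U).functor (overUnit U)).ofEpi (overIso M U).hom

def overOfPres (P : SheafOfModules.Presentation.{u} (M.restrict U.ι)) :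
    (SheafOfModules.over.{u} M U).Presentation :=
  (P.map (Scheme.Modules.overEquiv U).inverse (overInvUnit U)).ofIsIso (overInvIso M U).hom

def overOfGen (σ : SheafOfModules.GeneratingSections.{u} (M.restrict U.ι)) :
    (SheafOfModules.over.{u} M U).GeneratingSections :=
  (σ.map (Scheme.Modules.overEquiv U).inverse (overInvUnit U)).ofEpi (overInvIso M U).hom

end Over

lemma coversTop_of_forall {ι : Type*} {W : ι → X.Opens} (h : ∀ x : X, ∃ i, x ∈ W i) :
    (Opens.grothendieckTopology X).CoversTop W := by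
  rw [Opens.coversTop_iff, IsOpenCover, eq_top_iff]
  exact fun x _ ↦ Opens.mem_iSup.mpr (h x)

lemma exists_of_coversTop {ι : Type*} {W : ι → X.Opens}
    (h : (Opens.grothendieckTopology X).CoversTop W) (x : X) : ∃ i, x ∈ W i :=
  ((Opens.coversTop_iff (T := X) W).mp h).exists_mem x

/-- Quasi-coherent data from presentations on a covering. -/
def qcData {ι : Type u} (W : ι → X.Opens) (h : ∀ x : X, ∃ i, x ∈ W i)
    (P : ∀ i, SheafOfModules.Presentation.{u} (M.restrict (W i).ι)) :
    SheafOfModules.QuasicoherentData.{u} (R := X.ringCatSheaf) M where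
  I := ι
  X := W
  coversTop := coversTop_of_forall h
  presentation i := overOfPres (P i)

/-- Local generators from generators on a covering. -/
def genData {ι : Type u} (W : ι → X.Opens) (h : ∀ x : X, ∃ i, x ∈ W i)
    (σ : ∀ i, SheafOfModules.GeneratingSections.{u} (M.restrict (W i).ι)) :
    SheafOfModules.LocalGeneratorsData.{u} (R := X.ringCatSheaf) M where
  I := ι
  X := W
  coversTop := coversTop_of_forall h
  generators i := overOfGen (σ i)

lemma overOfGen_isFiniteType {U : X.Opens}
    {σ : SheafOfModules.GeneratingSections.{u} (M.restrict U.ι)} (h : σ.IsFiniteType) :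
    (overOfGen σ).IsFiniteType :=
  ⟨show Finite σ.I from h.finite⟩

lemma genOfOver_isFiniteType {U : X.Opens}
    {σ : (SheafOfModules.over.{u} M U).GeneratingSections} (h : σ.IsFiniteType) :
    (genOfOver σ).IsFiniteType :=
  ⟨show Finite σ.I from h.finite⟩

lemma presOfOver_isFinite {U : X.Opens}
    {P : (SheafOfModules.over.{u} M U).Presentation} (h : P.IsFinite) :
    (presOfOver P).IsFinite where
  isFiniteType_generators := ⟨show Finite P.generators.I from h.isFiniteType_generators.finite⟩
  isFiniteType_relations := ⟨show Finite P.relations.I from h.isFiniteType_relations.finite⟩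

lemma overOfPres_isFinite {U : X.Opens}
    {P : SheafOfModules.Presentation.{u} (M.restrict U.ι)} (h : P.IsFinite) :
    (overOfPres P).IsFinite where
  isFiniteType_generators := ⟨show Finite P.generators.I from h.isFiniteType_generators.finite⟩
  isFiniteType_relations := ⟨show Finite P.relations.I from h.isFiniteType_relations.finite⟩

lemma isFT_of_genData {ι : Type u} (W : ι → X.Opens) (h : ∀ x : X, ∃ i, x ∈ W i)
    (σ : ∀ i, SheafOfModules.GeneratingSections.{u} (M.restrict (W i).ι))
    (hσ : ∀ i, (σ i).IsFiniteType) : CohB1.IsFT M := by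
  have h' : (genData (M := M) W h σ).IsFiniteType :=
    { isFiniteType := fun i ↦ overOfGen_isFiniteType (hσ i) }
  exact { exists_localGeneratorsData := ⟨genData (M := M) W h σ, h'⟩ }

lemma isFP_of_qcData {ι : Type u} (W : ι → X.Opens) (h : ∀ x : X, ∃ i, x ∈ W i)
    (P : ∀ i, SheafOfModules.Presentation.{u} (M.restrict (W i).ι))
    (hP : ∀ i, (P i).IsFinite) : CohB1.IsFP M := by
  have h' : (qcData (M := M) W h P).IsFinitePresentation :=
    { isFinite_presentation := fun i ↦ overOfPres_isFinite (hP i) }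
  exact { exists_quasicoherentData := ⟨qcData (M := M) W h P, h'⟩ }

lemma isQCoh_iff_exists_hasPres :
    Coh.IsQCoh M ↔ ∀ x : X, ∃ U : X.Opens, x ∈ U ∧ HasPres M U := by
  constructor
  · intro hM x
    obtain ⟨⟨q⟩⟩ := hM
    obtain ⟨i, hi⟩ := exists_of_coversTop q.coversTop x
    exact ⟨q.X i, hi, ⟨presOfOver (q.presentation i)⟩⟩
  · intro h
    choose U hxU P using h
    exact (qcData U (fun x ↦ ⟨x, hxU x⟩) fun x ↦ (P x).some).isQuasicoherent

lemma isFT_iff_exists_hasFinGen :
    CohB1.IsFT M ↔ ∀ x : X, ∃ U : X.Opens, x ∈ U ∧ HasFinGen M U := by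
  constructor
  · intro hM x
    obtain ⟨q, hq⟩ := hM.exists_localGeneratorsData
    obtain ⟨i, hi⟩ := exists_of_coversTop q.coversTop x
    exact ⟨q.X i, hi, genOfOver (q.generators i), genOfOver_isFiniteType (hq.isFiniteType i)⟩
  · intro h
    choose U hxU σ hσ using h
    exact isFT_of_genData U (fun x ↦ ⟨x, hxU x⟩) σ hσ

lemma isFP_iff_exists_hasFinPres :
    CohB1.IsFP M ↔ ∀ x : X, ∃ U : X.Opens, x ∈ U ∧ HasFinPres M U := by
  constructor
  · intro hM x
    obtain ⟨q, hq⟩ := hM.exists_quasicoherentData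
    obtain ⟨i, hi⟩ := exists_of_coversTop q.coversTop x
    exact ⟨q.X i, hi, presOfOver (q.presentation i),
      presOfOver_isFinite (hq.isFinite_presentation i)⟩
  · intro h
    choose U hxU P hP using h
    exact isFP_of_qcData U (fun x ↦ ⟨x, hxU x⟩) P hP

/-! ### Changing the ambient scheme -/

/-- From `V ⊆ Y` to its image in `X` along an open immersion. -/
def transportImage (f : Y ⟶ X) [IsOpenImmersion f] (M : X.Modules) (V : Y.Opens) :
    Transport (M.restrict f) V (f ''ᵁ V) M :=
  haveI : PreservesColimitsOfSize.{u, u} (Scheme.Modules.restrictFunctor (f.isoImage V).inv) :=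
    inferInstance
  { F := Scheme.Modules.restrictFunctor (f.isoImage V).inv
    η := (Scheme.Modules.restrictUnitIso _).symm
    iso := (Scheme.Modules.restrictFunctorComp (f.isoImage V).inv V.ι).symm.app (M.restrict f) ≪≫
      (Scheme.Modules.restrictFunctorComp ((f.isoImage V).inv ≫ V.ι) f).symm.app M ≪≫
      (Scheme.Modules.restrictFunctorCongr (by simp)).app M }

/-- From `U ⊆ X` to its preimage in `Y` along an open immersion. -/
def transportPreimage (f : Y ⟶ X) [IsOpenImmersion f] (M : X.Modules) (U : X.Opens) :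
    Transport M U (f ⁻¹ᵁ U) (M.restrict f) :=
  haveI : PreservesColimitsOfSize.{u, u} (Scheme.Modules.restrictFunctor (f ∣_ U)) :=
    inferInstance
  { F := Scheme.Modules.restrictFunctor (f ∣_ U)
    η := (Scheme.Modules.restrictUnitIso _).symm
    iso := (Scheme.Modules.restrictFunctorComp (f ∣_ U) U.ι).symm.app M ≪≫
      (Scheme.Modules.restrictFunctorCongr (morphismRestrict_ι f U)).app M ≪≫
      (Scheme.Modules.restrictFunctorComp (f ⁻¹ᵁ U).ι f).app M }

variable (f : Y ⟶ X) [IsOpenImmersion f]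

lemma HasPres.image {V : Y.Opens} (h : HasPres (M.restrict f) V) : HasPres M (f ''ᵁ V) :=
  (transportImage f M V).hasPres h

lemma HasFinGen.image {V : Y.Opens} (h : HasFinGen (M.restrict f) V) : HasFinGen M (f ''ᵁ V) :=
  (transportImage f M V).hasFinGen h

lemma HasFinPres.image {V : Y.Opens} (h : HasFinPres (M.restrict f) V) : HasFinPres M (f ''ᵁ V) :=
  (transportImage f M V).hasFinPres h

lemma isFT_restrict (hM : CohB1.IsFT M) : CohB1.IsFT (M.restrict f) :=
  isFT_iff_exists_hasFinGen.mpr fun y ↦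
    let ⟨U, hU, h⟩ := isFT_iff_exists_hasFinGen.mp hM (f y)
    ⟨f ⁻¹ᵁ U, hU, (transportPreimage f M U).hasFinGen h⟩

lemma isQCoh_restrict (hM : Coh.IsQCoh M) : Coh.IsQCoh (M.restrict f) :=
  haveI := hM
  inferInstance

lemma isFP_restrict (hM : CohB1.IsFP M) : CohB1.IsFP (M.restrict f) :=
  isFP_iff_exists_hasFinPres.mpr fun y ↦
    let ⟨U, hU, h⟩ := isFP_iff_exists_hasFinPres.mp hM (f y)
    ⟨f ⁻¹ᵁ U, hU, (transportPreimage f M U).hasFinPres h⟩

lemma isQCoh_of_local (h : ∀ x : X, ∃ (Y : Scheme.{u}) (f : Y ⟶ X) (_ : IsOpenImmersion f),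
    x ∈ Set.range f ∧ Coh.IsQCoh (M.restrict f)) : Coh.IsQCoh M :=
  isQCoh_iff_exists_hasPres.mpr fun x ↦ by
    obtain ⟨Y, f, hf, ⟨y, rfl⟩, hq⟩ := h x
    obtain ⟨V, hy, hV⟩ := isQCoh_iff_exists_hasPres.mp hq y
    exact ⟨f ''ᵁ V, ⟨y, hy, rfl⟩, hV.image f⟩

lemma isFT_of_local (h : ∀ x : X, ∃ (Y : Scheme.{u}) (f : Y ⟶ X) (_ : IsOpenImmersion f),
    x ∈ Set.range f ∧ CohB1.IsFT (M.restrict f)) : CohB1.IsFT M :=
  isFT_iff_exists_hasFinGen.mpr fun x ↦ by
    obtain ⟨Y, f, hf, ⟨y, rfl⟩, hq⟩ := h x
    obtain ⟨V, hy, hV⟩ := isFT_iff_exists_hasFinGen.mp hq y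
    exact ⟨f ''ᵁ V, ⟨y, hy, rfl⟩, hV.image f⟩

lemma isFP_of_local (h : ∀ x : X, ∃ (Y : Scheme.{u}) (f : Y ⟶ X) (_ : IsOpenImmersion f),
    x ∈ Set.range f ∧ CohB1.IsFP (M.restrict f)) : CohB1.IsFP M :=
  isFP_iff_exists_hasFinPres.mpr fun x ↦ by
    obtain ⟨Y, f, hf, ⟨y, rfl⟩, hq⟩ := h x
    obtain ⟨V, hy, hV⟩ := isFP_iff_exists_hasFinPres.mp hq y
    exact ⟨f ''ᵁ V, ⟨y, hy, rfl⟩, hV.image f⟩

lemma isFT_of_epi (p : M ⟶ N) [Epi p] (hM : CohB1.IsFT M) : CohB1.IsFT N :=
  isFT_iff_exists_hasFinGen.mpr fun x ↦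
    let ⟨U, hU, h⟩ := isFT_iff_exists_hasFinGen.mp hM x
    ⟨U, hU, h.of_epi p⟩

end Groth.Agent.QC
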