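import Groth.Agent.QC.Local
import Mathlib.Algebra.Category.ModuleCat.Kernels
import Mathlib.RingTheory.Finiteness.Cardinality
/-!
# Quasi-coherent modules on an affine scheme: tilde is exact
-/

universe u

open CategoryTheory CategoryTheory.Limits AlgebraicGeometry TopologicalSpace Opposite

set_option backward.isDefEq.respectTransparency false

noncomputable section

namespace Groth.Agent.QC

variable {R : CommRingCat.{u}}

lemma toOpen_map_apply {M N : ModuleCat.{u} R} (f : M ⟶ N) (U : (Spec R).Opens) (m : M) :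
    (modulesSpecToSheaf.map (tilde.map f)).1.app (op U) (tilde.toOpen M U m) =
      tilde.toOpen N U (f m) :=
  congr($(tilde.toOpen_map_app f U) m)

/-- `tilde` preserves monomorphisms. -/
lemma tilde_map_mono {M N : ModuleCat.{u} R} (f : M ⟶ N) [Mono f] : Mono (tilde.map f) := by
  have hf : Function.Injective f.hom := (ModuleCat.mono_iff_injective f).mp inferInstance
  refine mono_of_injective_basis _ (PrimeSpectrum.isBasis_basic_opens (R := R)) fun r ↦ ?_
  let g := ((modulesSpecToSheaf.map (tilde.map f)).1.app (op (PrimeSpectrum.basicOpen r))).hom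
  suffices Function.Injective g from this
  refine (injective_iff_map_eq_zero g).mpr fun s hs ↦ ?_
  obtain ⟨⟨m, c⟩, hm⟩ := IsLocalizedModule.surj (Submonoid.powers r)
    (tilde.toOpen M (PrimeSpectrum.basicOpen r)).hom s
  have h0 : (tilde.toOpen N (PrimeSpectrum.basicOpen r)).hom (f m) = 0 := by
    rw [← toOpen_map_apply]
    change g ((tilde.toOpen M (PrimeSpectrum.basicOpen r)).hom m) = 0
    rw [← hm, LinearMap.map_smul_of_tower, hs, smul_zero]
  obtain ⟨d, hd⟩ := (IsLocalizedModule.eq_zero_iff (Submonoid.powers r) _).mp h0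
  have hm0 : (tilde.toOpen M (PrimeSpectrum.basicOpen r)).hom m = 0 := by
    refine (IsLocalizedModule.eq_zero_iff (Submonoid.powers r) _).mpr ⟨d, hf ?_⟩
    rw [map_zero, ← hd]
    exact f.hom.map_smul_of_tower d m
  rw [hm0] at hm
  exact IsLocalizedModule.smul_injective (tilde.toOpen M (PrimeSpectrum.basicOpen r)).hom c (hm.trans (smul_zero _).symm)

instance : (tilde.functor R).PreservesMonomorphisms where
  preserves f _ := tilde_map_mono f

instance tilde_preservesFiniteColimits : PreservesFiniteColimits (tilde.functor R) :=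
  haveI : PreservesColimitsOfSize.{u, u} (tilde.functor R) :=
    tilde.adjunction.leftAdjoint_preservesColimits
  PreservesColimitsOfSize.preservesFiniteColimits _

instance tilde_preservesFiniteLimits : PreservesFiniteLimits (tilde.functor R) :=
  preservesFiniteLimits_of_preservesMono _

/-- A quasi-coherent module on an affine scheme is the tilde of its global sections. -/
def isoTildeΓ (M : (Spec R).Modules) [M.IsQuasicoherent] :
    tilde ((modulesSpecToSheaf.obj M).presheaf.obj (op ⊤)) ≅ M :=
  @asIso _ _ _ _ M.fromTildeΓ (Scheme.Modules.isIso_fromTildeΓ_of_isQuasicoherent (R := R) M)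

lemma isQCoh_tilde (N : ModuleCat.{u} R) : Coh.IsQCoh (tilde N) := inferInstance

lemma isQCoh_of_iso {X : Scheme.{u}} {M N : X.Modules} (e : M ≅ N) (h : Coh.IsQCoh M) :
    Coh.IsQCoh N :=
  (SheafOfModules.isQuasicoherent X.ringCatSheaf).prop_of_iso e h

lemma exists_tilde_map {M N : (Spec R).Modules} [M.IsQuasicoherent] [N.IsQuasicoherent]
    (φ : M ⟶ N) : ∃ (A B : ModuleCat.{u} R) (g : A ⟶ B) (eA : tilde A ≅ M) (eB : tilde B ≅ N),
      tilde.map g ≫ eB.hom = eA.hom ≫ φ := by
  refine ⟨_, _, (tilde.functor R).preimage ((isoTildeΓ M).hom ≫ φ ≫ (isoTildeΓ N).inv),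
    isoTildeΓ M, isoTildeΓ N, ?_⟩
  change (tilde.functor R).map _ ≫ _ = _
  rw [Functor.map_preimage]
  simp

lemma isQCoh_kernel_spec {M N : (Spec R).Modules} (hM : Coh.IsQCoh M) (hN : Coh.IsQCoh N)
    (φ : M ⟶ N) : Coh.IsQCoh (kernel φ) := by
  obtain ⟨A, B, g, eA, eB, h⟩ := exists_tilde_map φ
  exact isQCoh_of_iso (PreservesKernel.iso (tilde.functor R) g ≪≫ kernel.mapIso _ φ eA eB h)
    (isQCoh_tilde (kernel g))

lemma isQCoh_cokernel_spec {M N : (Spec R).Modules} (hM : Coh.IsQCoh M) (hN : Coh.IsQCoh N)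
    (φ : M ⟶ N) : Coh.IsQCoh (cokernel φ) := by
  obtain ⟨A, B, g, eA, eB, h⟩ := exists_tilde_map φ
  exact isQCoh_of_iso (PreservesCokernel.iso (tilde.functor R) g ≪≫ cokernel.mapIso _ φ eA eB h)
    (isQCoh_tilde (cokernel g))

lemma isQCoh_colimit_spec {J : Type u} [SmallCategory J] (F : J ⥤ (Spec R).Modules)
    (hF : ∀ j, Coh.IsQCoh (F.obj j)) : Coh.IsQCoh (colimit F) := by
  haveI : PreservesColimitsOfSize.{u, u} (tilde.functor R) :=
    tilde.adjunction.leftAdjoint_preservesColimits
  haveI : ∀ j, IsIso ((Functor.whiskerLeft F (Scheme.Modules.fromTildeΓNatTrans (R := R))).app j) :=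
    fun j ↦ @Scheme.Modules.isIso_fromTildeΓ_of_isQuasicoherent R (F.obj j) (hF j)
  haveI := NatIso.isIso_of_isIso_app (Functor.whiskerLeft F (Scheme.Modules.fromTildeΓNatTrans (R := R)))
  let e : (F ⋙ moduleSpecΓFunctor (R := R)) ⋙ tilde.functor R ≅ F :=
    Functor.associator _ _ _ ≪≫
      asIso (Functor.whiskerLeft F (Scheme.Modules.fromTildeΓNatTrans (R := R))) ≪≫
      F.rightUnitor
  exact isQCoh_of_iso (preservesColimitIso (tilde.functor R) _ ≪≫ HasColimit.isoOfNatIso e)
    (isQCoh_tilde _)

/-- An epimorphism between tildes comes from a surjection. -/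
lemma surjective_of_epi_tilde {A B : ModuleCat.{u} R} (g : A ⟶ B) [Epi (tilde.map g)] :
    Function.Surjective g := by
  haveI : Epi g := Functor.epi_of_epi_map (tilde.functor R) ‹Epi (tilde.map g)›
  exact (ModuleCat.epi_iff_surjective g).mp ‹_›

/-- A finitely generated quasi-coherent module on `Spec R` has finite global sections. -/
lemma finite_of_generatingSections {N : ModuleCat.{u} R}
    (σ : SheafOfModules.GeneratingSections.{u} (tilde N)) (hσ : σ.IsFiniteType) :
    Module.Finite R N := by
  haveI : Finite σ.I := hσ.finite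
  obtain ⟨g, hg⟩ := (tilde.functor R).map_surjective ((tildeFinsupp (R := R) σ.I).hom ≫ σ.π)
  haveI : Epi (tilde.map g) := by
    change Epi ((tilde.functor R).map g)
    rw [hg]
    haveI : Epi σ.π := σ.epi
    exact @epi_comp _ _ _ _ _ _ inferInstance _ σ.epi
  exact Module.Finite.of_surjective g.hom (surjective_of_epi_tilde g)

end Groth.Agent.QC
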