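import Groth.Agent.QC.AffineSpec
import Mathlib.CategoryTheory.Adjunction.Unique
import Mathlib.Algebra.Category.ModuleCat.ChangeOfRings
/-!
# Pullback of tilde along a map of affine schemes is base change
-/

universe u

open CategoryTheory CategoryTheory.Limits AlgebraicGeometry TopologicalSpace Opposite

set_option backward.isDefEq.respectTransparency false

noncomputable section

namespace Groth.Agent.QC

variable {R S : CommRingCat.{u}} (φ : R ⟶ S)

/-- Global sections of a direct image along `Spec φ`. -/
def pushforwardΓIso :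
    Scheme.Modules.pushforward (Spec.map φ) ⋙ moduleSpecΓFunctor (R := R) ≅
      moduleSpecΓFunctor (R := S) ⋙ ModuleCat.restrictScalars φ.hom :=
  NatIso.ofComponents
    (fun M ↦ ((TopCat.Sheaf.forget _ _ ⋙ (evaluation _ _).obj (op ⊤)).mapIso
      ((pushforwardCompModulesSpecToSheafIso φ).app M) :))
    fun {M N} f ↦ by
      exact congr((TopCat.Sheaf.forget _ _ ⋙ (evaluation _ _).obj (op ⊤)).map
        $((pushforwardCompModulesSpecToSheafIso φ).hom.naturality f))

/-- `(Spec φ)^* M~ ≅ (S ⊗ M)~`, naturally. -/
def pullbackTildeIso :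
    tilde.functor R ⋙ Scheme.Modules.pullback (Spec.map φ) ≅
      ModuleCat.extendScalars.{u, u, u} φ.hom ⋙ tilde.functor S :=
  ((tilde.adjunction.comp (Scheme.Modules.pullbackPushforwardAdjunction (Spec.map φ))).ofNatIsoRight
    (pushforwardΓIso φ)).leftAdjointUniq
    ((ModuleCat.extendRestrictScalarsAdj.{u, u, u} φ.hom).comp tilde.adjunction)

lemma isQCoh_pullback_tilde (M : ModuleCat.{u} R) :
    Coh.IsQCoh ((Scheme.Modules.pullback (Spec.map φ)).obj (tilde M)) :=
  isQCoh_of_iso ((pullbackTildeIso φ).app M).symm (isQCoh_tilde _)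

end Groth.Agent.QC
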