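import Groth.Agent.QC.Generated
import Mathlib.Topology.NoetherianSpace
/-!
# Extending finite type quasi-coherent subsheaves from an open
-/

universe u

open CategoryTheory CategoryTheory.Limits AlgebraicGeometry TopologicalSpace Opposite

set_option backward.isDefEq.respectTransparency false

noncomputable section

namespace Groth.Agent.QC

variable {X : Scheme.{u}} {F : X.Modules}

lemma locFinGen_isLoc [hF : F.IsQuasicoherent] {S : Sub F} {D : X.Opens} (hD : IsAffineOpen D)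
    {T : Finset Γ(F, D)} (h : GenOn S D T) :
    IsLoc S.toModules D ∧ Module.Finite Γ(X, D) Γ(S.toModules, D) := by
  have hloc := isLoc_of_isQCoh hD (M := F)
  have hspan : S.obj D = Submodule.span Γ(X, D) (T : Set Γ(F, D)) := by
    ext s
    rw [h.obj_eq le_rfl, mem_genSub_iff hD le_rfl]
    simp [res_self]
  refine ⟨⟨fun f t ↦ ?_, fun f s hs ↦ ?_⟩, ?_⟩
  · have ht : S.ι.app _ t ∈ S.obj (X.basicOpen f) := (S.range_ι_app _ _).mp ⟨t, rfl⟩
    rw [h.obj_eq (X.basicOpen_le f), mem_genSub_iff (hD.basicOpen f) (X.basicOpen_le f)] at ht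
    obtain ⟨n, p, hp, hpe⟩ := exists_pow_smul_mem_span hD f ht
    rw [← hspan] at hp
    obtain ⟨s, rfl⟩ := (S.range_ι_app _ _).mpr hp
    refine ⟨n, s, S.ι_app_injective _ ?_⟩
    rw [← app_res, hpe, Scheme.Modules.Hom.app_smul]
  · obtain ⟨n, hn⟩ := hloc.exists_pow_smul_eq_zero f (S.ι.app D s)
      (by rw [app_res, hs, map_zero])
    exact ⟨n, S.ι_app_injective _ (by rw [Scheme.Modules.Hom.app_smul, hn, map_zero])⟩
  · haveI : Module.Finite Γ(X, D) (S.obj D) := Module.Finite.iff_fg.mpr ⟨T, hspan.symm⟩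
    let e : S.obj D ≃ₗ[Γ(X, D)] Γ(S.toModules, D) :=
      { toFun := id
        invFun := id
        map_add' := fun _ _ ↦ rfl
        map_smul' := fun _ _ ↦ rfl }
    exact Module.Finite.equiv e

lemma Sub.isCoh_toModules [hF : F.IsQuasicoherent] {S : Sub F} (h : LocFinGen S ⊤) :
    Coh.IsQCoh S.toModules ∧ CohB1.IsFT S.toModules := by
  have hq : Coh.IsQCoh S.toModules := isQCoh_of_isLoc fun x ↦ by
    obtain ⟨D, hD, hx, -, T, hT⟩ := h x trivial
    exact ⟨D, hD, hx, (locFinGen_isLoc hD hT).1⟩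
  refine ⟨hq, isFT_iff_exists_hasFinGen.mpr fun x ↦ ?_⟩
  obtain ⟨D, hD, hx, -, T, hT⟩ := h x trivial
  haveI := (locFinGen_isLoc hD hT).2
  exact ⟨D, hx, hasFinGen_of_finite hD (hM := hq)⟩

/-- Impose the condition `S` only on `W`. -/
def Sub.restrictCond (S : Sub F) (W : X.Opens) : Sub F where
  obj O :=
    { carrier := {s | res F (inf_le_left : O ⊓ W ≤ O) s ∈ S.obj (O ⊓ W)}
      zero_mem' := by simp
      add_mem' := fun {a b} ha hb ↦ by
        simp only [Set.mem_setOf_eq, map_add] at *; exact Submodule.add_mem _ ha hb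
      smul_mem' := fun c a ha ↦ by
        simp only [Set.mem_setOf_eq, res_smul] at *; exact Submodule.smul_mem _ _ ha }
  res_mem := fun {O' O} h {s} hs ↦ by
    change res F (inf_le_left : O' ⊓ W ≤ O') (res F h s) ∈ S.obj (O' ⊓ W)
    have hs' : res F (inf_le_left : O ⊓ W ≤ O) s ∈ S.obj (O ⊓ W) := hs
    have := S.res_mem (inf_le_inf_right W h) hs'
    rw [res_res] at this ⊢
    exact this
  local' := fun {O} s hs ↦ S.local' _ fun x hx ↦ by
    obtain ⟨A, hA, hxA, hsA⟩ := hs x hx.1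
    refine ⟨A ⊓ W, inf_le_inf_right W hA, ⟨hxA, hx.2⟩, ?_⟩
    have hsA' : res F (inf_le_left : A ⊓ W ≤ A) (res F hA s) ∈ S.obj (A ⊓ W) := hsA
    rw [res_res] at hsA' ⊢
    exact hsA'

lemma Sub.mem_restrictCond {S : Sub F} {W O : X.Opens} (hO : O ≤ W) (s : Γ(F, O)) :
    s ∈ (S.restrictCond W).obj O ↔ s ∈ S.obj O := by
  refine ⟨fun h ↦ S.local' s fun x hx ↦ ⟨O ⊓ W, inf_le_left, ⟨hx, hO hx⟩, h⟩, fun h ↦ S.res_mem _ h⟩

/-- The intersection of two subsheaves. -/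
def Sub.inf (S T : Sub F) : Sub F where
  obj O := S.obj O ⊓ T.obj O
  res_mem := fun h _ hs ↦ ⟨S.res_mem h hs.1, T.res_mem h hs.2⟩
  local' := fun s hs ↦ ⟨S.local' s fun x hx ↦ let ⟨A, h, hx, hA⟩ := hs x hx; ⟨A, h, hx, hA.1⟩,
    T.local' s fun x hx ↦ let ⟨A, h, hx, hA⟩ := hs x hx; ⟨A, h, hx, hA.2⟩⟩

/-- Intersection of a family. -/
def Sub.iInf {κ : Type*} (S : κ → Sub F) : Sub F where
  obj O := ⨅ k, (S k).obj O
  res_mem := fun h _ hs ↦ (Submodule.mem_iInf _).mpr fun k ↦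
    (S k).res_mem h ((Submodule.mem_iInf _).mp hs k)
  local' := fun s hs ↦ (Submodule.mem_iInf _).mpr fun k ↦ (S k).local' s fun x hx ↦
    let ⟨A, h, hx, hA⟩ := hs x hx
    ⟨A, h, hx, (Submodule.mem_iInf _).mp hA k⟩

lemma GenOn.congr {S S' : Sub F} {D : X.Opens} {T : Set Γ(F, D)} (h : GenOn S D T)
    (e : ∀ O ≤ D, S'.obj O = S.obj O) : GenOn S' D T where
  mem t ht := (e D le_rfl).symm ▸ h.mem t ht
  le O hO := (e O hO).le.trans (h.le O hO)

lemma exists_extend_affine [hF : F.IsQuasicoherent] (S : Sub F) {W V : X.Opens}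
    (hS : LocFinGen S W) (hV : IsAffineOpen V) (hc : IsCompact ((W ⊓ V : X.Opens) : Set X)) :
    ∃ S' : Sub F, LocFinGen S' (W ⊔ V) ∧ ∀ O ≤ W, S'.obj O = S.obj O := by
  classical
  obtain ⟨T, hT⟩ := exists_finset_genOn S hS hV inf_le_right inf_le_left hc
  have hW : ∀ O ≤ W, ((S.restrictCond W).inf (genSub (T : Set Γ(F, V)))).obj O = S.obj O := by
    intro O hO
    ext s
    refine ⟨fun h ↦ (Sub.mem_restrictCond hO s).mp h.1, fun h ↦
      ⟨(Sub.mem_restrictCond hO s).mpr h, fun x hx hxV ↦ ?_⟩⟩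
    obtain ⟨A, g, g', hxA, hA⟩ := hT.le (O ⊓ V) (inf_le_inf_right V hO)
      (S.res_mem (inf_le_left : O ⊓ V ≤ O) h) x ⟨hx, hxV⟩ ⟨hO hx, hxV⟩
    rw [image_res_res, res_res] at hA
    exact ⟨A, g.trans inf_le_left, g.trans inf_le_right, hxA, hA⟩
  refine ⟨(S.restrictCond W).inf (genSub (T : Set Γ(F, V))), fun x hx ↦ ?_, hW⟩
  rcases hx with hx | hx
  · obtain ⟨D, hD, hxD, hDW, T', hT'⟩ := hS x hx
    exact ⟨D, hD, hxD, hDW.trans le_sup_left, T', hT'.congr fun O hO ↦ hW O (hO.trans hDW)⟩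
  · refine ⟨V, hV, hx, le_sup_right, T, ⟨fun t ht ↦ ⟨?_, mem_genSub_of_mem ht⟩, fun O _ ↦ inf_le_right⟩⟩
    change res F (inf_le_left : V ⊓ W ≤ V) t ∈ S.obj (V ⊓ W)
    have h1 := hT.mem (res F inf_le_right t) ⟨t, ht, rfl⟩
    have h2 := S.res_mem (inf_comm V W).le h1
    rwa [res_res] at h2

/-- A state of the extension process. -/
structure Ext (F : X.Modules) where
  W : X.Opens
  S : Sub F
  gen : LocFinGen S W

instance : LE (Ext F) := ⟨fun a b ↦ a.W ≤ b.W ∧ ∀ O ≤ a.W, b.S.obj O = a.S.obj O⟩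

instance : Preorder (Ext F) where
  le_refl a := ⟨le_rfl, fun _ _ ↦ rfl⟩
  le_trans a b c hab hbc :=
    ⟨hab.1.trans hbc.1, fun O hO ↦ (hbc.2 O (hO.trans hab.1)).trans (hab.2 O hO)⟩

/-- Extension to the whole scheme, for a locally Noetherian space. -/
lemma exists_extend [hF : F.IsQuasicoherent]
    (hX : ∀ x : X, ∃ U : X.Opens, x ∈ U ∧ NoetherianSpace (U : Set X))
    (S : Sub F) {W : X.Opens} (hS : LocFinGen S W) :
    ∃ S' : Sub F, LocFinGen S' ⊤ ∧ ∀ O ≤ W, S'.obj O = S.obj O := by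
  let e₀ : Ext F := ⟨W, S, hS⟩
  obtain ⟨m, hm0, hm⟩ := zorn_le_nonempty₀ {e : Ext F | e₀ ≤ e} (fun c hc hchain y hy ↦ by
    let R : Sub F := Sub.iInf fun k : c ↦ k.1.S.restrictCond k.1.W
    have key : ∀ a ∈ c, ∀ O ≤ a.W, R.obj O = a.S.obj O := by
      intro a ha O hO
      ext s
      refine ⟨fun h ↦ (Sub.mem_restrictCond hO s).mp ((Submodule.mem_iInf _).mp h ⟨a, ha⟩),
        fun h ↦ (Submodule.mem_iInf _).mpr fun k ↦ ?_⟩
      change res F (inf_le_left : O ⊓ k.1.W ≤ O) s ∈ k.1.S.obj (O ⊓ k.1.W)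
      rcases hchain.total ha k.2 with hle | hle
      · rw [hle.2 _ (inf_le_left.trans hO)]
        exact a.S.res_mem _ h
      · rw [← hle.2 _ inf_le_right]
        exact a.S.res_mem _ h
    refine ⟨⟨⨆ a ∈ c, a.W, R, ?_⟩, ?_, fun a ha ↦ ⟨le_iSup₂_of_le a ha le_rfl, key a ha⟩⟩
    · intro x hx
      obtain ⟨a, ha, hxa⟩ : ∃ a ∈ c, x ∈ a.W := by simpa [Opens.mem_iSup] using hx
      obtain ⟨D, hD, hxD, hDW, T, hT⟩ := a.gen x hxa
      exact ⟨D, hD, hxD, hDW.trans (le_iSup₂_of_le a ha le_rfl), T,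
        hT.congr fun O hO ↦ key a ha O (hO.trans hDW)⟩
    · have h1 : e₀ ≤ y := hc hy
      exact ⟨h1.1.trans (le_iSup₂_of_le y hy le_rfl),
        fun O hO ↦ (key y hy O (hO.trans h1.1)).trans (h1.2 O hO)⟩) e₀ (show e₀ ≤ e₀ from le_rfl)
  have htop : m.W = ⊤ := by
    refine top_le_iff.mp fun x _ ↦ ?_
    by_contra hx
    obtain ⟨U, hxU, hU⟩ := hX x
    obtain ⟨_, ⟨V : X.Opens, hV : IsAffineOpen V, rfl⟩, hxV, hVU⟩ :=
      X.isBasis_affineOpens.exists_subset_of_mem_open hxU U.2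
    have hc : IsCompact ((m.W ⊓ V : X.Opens) : Set X) := by
      haveI : NoetherianSpace (U : Set X) := hU
      have h1 : IsCompact (Subtype.val ⁻¹' ((m.W ⊓ V : X.Opens) : Set X) :
          Set ((U : Set X) : Type u)) :=
        NoetherianSpace.isCompact _
      have h2 := h1.image continuous_subtype_val
      rwa [Subtype.image_preimage_coe, Set.inter_eq_right.mpr] at h2
      exact fun y hy ↦ hVU hy.2
    obtain ⟨S', hS', heq⟩ := exists_extend_affine m.S m.gen hV hc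
    have hle : m ≤ ⟨m.W ⊔ V, S', hS'⟩ := ⟨le_sup_left, heq⟩
    exact hx ((hm.2 (le_trans hm.1 hle) hle).1 (Opens.mem_sup.mpr (Or.inr hxV)))
  exact ⟨m.S, htop ▸ m.gen, fun O hO ↦ hm0.2 O hO⟩

/-- Sections of a submodule on an open subscheme, seen in `F`. -/
def img {U : X.Opens} {G : (U : Scheme.{u}).Modules} (i : G ⟶ F.restrict U.ι)
    (A : (U : Scheme.{u}).Opens) : Γ(G, A) →+ Γ(F, U.ι ''ᵁ A) :=
  (i.app A ≫ (F.restrictAppIso U.ι A).hom).hom

lemma img_res {U : X.Opens} {G : (U : Scheme.{u}).Modules} (i : G ⟶ F.restrict U.ι)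
    {B A : (U : Scheme.{u}).Opens} (h : B ≤ A) (g : Γ(G, A)) :
    res F (U.ι.image_mono h) (img i A g) = img i B (res G h g) :=
  app_res i h g

lemma img_smul {U : X.Opens} {G : (U : Scheme.{u}).Modules} (i : G ⟶ F.restrict U.ι)
    (A : (U : Scheme.{u}).Opens) (c : Γ((U : Scheme.{u}), A)) (g : Γ(G, A)) :
    img i A (c • g) = (show Γ(X, U.ι ''ᵁ A) from c) • (img i A g) := by
  change (F.restrictAppIso U.ι A).hom (i.app A (c • g)) = _
  rw [Scheme.Modules.Hom.app_smul]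
  have h1 := F.smul_restrictAppIso_hom_apply U.ι A c (i.app A g)
  rw [Scheme.Opens.ι_appIso] at h1
  exact h1

/-- The image of a module on an open subscheme, as a subsheaf of `F`. -/
def subOfOpen (U : X.Opens) (G : (U : Scheme.{u}).Modules) (i : G ⟶ F.restrict U.ι) : Sub F where
  obj O :=
    { carrier := {s | ∀ x ∈ O, x ∈ U → ∃ (A : (U : Scheme.{u}).Opens) (h : U.ι ''ᵁ A ≤ O),
        x ∈ U.ι ''ᵁ A ∧ res F h s ∈ Set.range (img i A)}
      zero_mem' := fun x hx hxU ↦ ⟨U.ι ⁻¹ᵁ O, U.ι.image_preimage_le O, ⟨⟨x, hxU⟩, hx, rfl⟩, 0, by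
        rw [map_zero, map_zero]⟩
      add_mem' := fun {a b} ha hb x hx hxU ↦ by
        obtain ⟨A, hA, hxA, g, hg⟩ := ha x hx hxU
        obtain ⟨B, hB, hxB, g', hg'⟩ := hb x hx hxU
        refine ⟨A ⊓ B, (U.ι.image_mono inf_le_left).trans hA, ?_,
          res G inf_le_left g + res G inf_le_right g', ?_⟩
        · obtain ⟨z, hz, rfl⟩ := hxA
          obtain ⟨z', hz', e⟩ := hxB
          rw [U.ι.isOpenEmbedding.injective e] at hz'
          exact ⟨z, ⟨hz, hz'⟩, rfl⟩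
        · rw [map_add, ← img_res, ← img_res, hg, hg', res_res, res_res, map_add]
      smul_mem' := fun c a ha x hx hxU ↦ by
        obtain ⟨A, hA, hxA, g, hg⟩ := ha x hx hxU
        refine ⟨A, hA, hxA, (show Γ((U : Scheme.{u}), A) from resO X hA c) • g, ?_⟩
        rw [img_smul, res_smul, hg] }
  res_mem := fun {O' O} h {s} hs x hx hxU ↦ by
    obtain ⟨A, hA, hxA, g, hg⟩ := hs x (h hx) hxU
    refine ⟨A ⊓ U.ι ⁻¹ᵁ O', ?_, ?_, res G inf_le_left g, ?_⟩
    · exact (U.ι.image_mono inf_le_right).trans (U.ι.image_preimage_le O')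
    · obtain ⟨z, hz, rfl⟩ := hxA
      exact ⟨z, ⟨hz, hx⟩, rfl⟩
    · rw [← img_res, hg, res_res, res_res]
  local' := fun {O} s hs x hx hxU ↦ by
    obtain ⟨W, h, hxW, hs⟩ := hs x hx
    obtain ⟨A, hA, hxA, hg⟩ := hs x hxW hxU
    rw [res_res] at hg
    exact ⟨A, hA.trans h, hxA, hg⟩

lemma subOfOpen_obj (U : X.Opens) (G : (U : Scheme.{u}).Modules) (i : G ⟶ F.restrict U.ι) [Mono i]
    (A : (U : Scheme.{u}).Opens) (s : Γ(F, U.ι ''ᵁ A)) :
    s ∈ (subOfOpen U G i).obj (U.ι ''ᵁ A) ↔ s ∈ Set.range (img i A) := by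
  refine ⟨fun h ↦ ?_, fun h x hx _ ↦ ⟨A, le_rfl, hx, by rw [res_self]; exact h⟩⟩
  choose B hB hxB g hg using fun x : A ↦ h (U.ι x.1) ⟨x.1, x.2, rfl⟩ (by
    have := x.1.2
    exact this)
  have hBA : ∀ x, B x ≤ A := fun x y hy ↦ by
    obtain ⟨z, hz, e⟩ := hB x ⟨y, hy, rfl⟩
    rwa [← U.ι.isOpenEmbedding.injective e]
  have hg' : ∀ x, (i.app (B x)) (g x) = res (F.restrict U.ι) (hBA x) s := hg
  obtain ⟨a, ha, -⟩ := TopCat.Sheaf.existsUnique_gluing' (abSheaf G) B A (fun x ↦ homOfLE (hBA x))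
    (fun y hy ↦ Opens.mem_iSup.mpr ⟨⟨y, hy⟩, by
      obtain ⟨z, hz, e⟩ := hxB ⟨y, hy⟩
      have e' : z = y := U.ι.isOpenEmbedding.injective e
      exact e' ▸ hz⟩) g (fun x y ↦ by
      have key : ∀ (C : (U : Scheme.{u}).Opens) (h1 : C ≤ B x) (h2 : C ≤ B y),
          res G h1 (g x) = res G h2 (g y) := fun C h1 h2 ↦ app_injective_of_mono i C (by
        rw [← app_res, ← app_res, hg', hg', res_res, res_res])
      exact key _ inf_le_left inf_le_right)
  refine ⟨a, section_eq_of_locally (M := F.restrict U.ι) (U := A) (s := i.app A a) (t := s)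
    fun y hy ↦ ⟨B ⟨y, hy⟩, hBA ⟨y, hy⟩, ?_, ?_⟩⟩
  · obtain ⟨z, hz, e⟩ := hxB ⟨y, hy⟩
    have e' : z = y := U.ι.isOpenEmbedding.injective e
    exact e' ▸ hz
  · rw [app_res, show res G (hBA ⟨y, hy⟩) a = g ⟨y, hy⟩ from ha ⟨y, hy⟩, hg']

lemma app_mem_span {U : X.Opens} {G : (U : Scheme.{u}).Modules} (i : G ⟶ F.restrict U.ι)
    {E D : (U : Scheme.{u}).Opens} (hED : E ≤ D) [DecidableEq Γ(F, U.ι ''ᵁ D)]
    (T₀ : Finset Γ(G, D)) (b : Γ(G, E))
    (hb : b ∈ Submodule.span Γ((U : Scheme.{u}), E) (res G hED '' (T₀ : Set Γ(G, D)))) :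
    img i E b ∈ Submodule.span Γ(X, U.ι ''ᵁ E)
      (res F (U.ι.image_mono hED) ''
        ((T₀.image fun g ↦ (img i D g) : Finset Γ(F, U.ι ''ᵁ D)) :
          Set Γ(F, U.ι ''ᵁ D))) := by
  induction hb using Submodule.span_induction with
  | mem b hb =>
    obtain ⟨t, ht, rfl⟩ := hb
    exact Submodule.subset_span ⟨_, Finset.mem_image_of_mem _ ht, img_res i _ t⟩
  | zero => rw [map_zero]; exact Submodule.zero_mem _
  | add a b _ _ ha hb => rw [map_add]; exact Submodule.add_mem _ ha hb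
  | smul c a _ ha =>
    rw [img_smul]
    exact Submodule.smul_mem _ _ ha

lemma locFinGen_subOfOpen (U : X.Opens) (G : (U : Scheme.{u}).Modules) (i : G ⟶ F.restrict U.ι)
    [Mono i] [hG : G.IsQuasicoherent] (hFT : CohB1.IsFT G) : LocFinGen (subOfOpen U G i) U := by
  classical
  intro x hx
  obtain ⟨D, hD, hxD⟩ := exists_affine_mem (X := (U : Scheme.{u})) ⟨x, hx⟩
  haveI := finite_sections hD hFT
  obtain ⟨T₀, hT₀⟩ := Module.Finite.fg_top (R := Γ((U : Scheme.{u}), D)) (M := Γ(G, D))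
  let T : Finset Γ(F, U.ι ''ᵁ D) := T₀.image fun g ↦ (img i D g)
  refine ⟨U.ι ''ᵁ D, hD.image_of_isOpenImmersion U.ι, ⟨⟨x, hx⟩, hxD, rfl⟩, ?_, T, ⟨?_, ?_⟩⟩
  · rintro y ⟨z, -, rfl⟩
    exact z.2
  · intro t ht
    obtain ⟨g, -, rfl⟩ := Finset.mem_image.mp ht
    exact (subOfOpen_obj U G i D _).mpr ⟨g, rfl⟩
  · intro O hO s hs y hy hyD
    obtain ⟨z, hz, rfl⟩ := hO hy
    obtain ⟨A, hA, hzA, g, hg⟩ := hs (U.ι z) hy (by exact z.2)
    obtain ⟨z', hz', e⟩ := hzA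
    obtain rfl := U.ι.isOpenEmbedding.injective e
    obtain ⟨f, hfA, hzf⟩ := hD.exists_basicOpen_le (⟨z', hz'⟩ : A) hz
    have hb := mem_span_basicOpen hD f hT₀ (res G hfA g)
    refine ⟨U.ι ''ᵁ (U : Scheme.{u}).basicOpen f, (U.ι.image_mono hfA).trans hA,
      U.ι.image_mono ((U : Scheme.{u}).basicOpen_le f), ⟨z', hzf, rfl⟩, ?_⟩
    have himg := app_mem_span i ((U : Scheme.{u}).basicOpen_le f) T₀
    have h3 := himg _ hb
    rw [← img_res] at h3
    have h4 : res F ((U.ι.image_mono hfA).trans hA) s =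
        res F (U.ι.image_mono hfA) (img i A g) := by
      rw [hg, res_res]
    rw [h4]
    exact h3

/-- Quasi-coherent subsheaves of finite type extend from opens (locally Noetherian space). -/
theorem exists_ft_extension (hX : ∀ x : X, ∃ U : X.Opens, x ∈ U ∧ NoetherianSpace (U : Set X))
    [hF : F.IsQuasicoherent] (U : X.Opens) (G : (U : Scheme.{u}).Modules)
    (i : G ⟶ F.restrict U.ι) [Mono i] [hG : G.IsQuasicoherent] (hFT : CohB1.IsFT G) :
    ∃ (G' : X.Modules) (i' : G' ⟶ F) (e : G'.restrict U.ι ≅ G), Mono i' ∧ Coh.IsQCoh G' ∧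
      CohB1.IsFT G' ∧ e.hom ≫ i = (Scheme.Modules.restrictFunctor U.ι).map i' := by
  obtain ⟨S, hS, heq⟩ := exists_extend hX (subOfOpen U G i) (locFinGen_subOfOpen U G i hFT)
  obtain ⟨hq, hft⟩ := Sub.isCoh_toModules hS
  have hle : ∀ A : (U : Scheme.{u}).Opens, U.ι ''ᵁ A ≤ U := by
    rintro A y ⟨z, -, rfl⟩
    exact z.2
  obtain ⟨e, he⟩ := exists_iso_of_range_eq ((Scheme.Modules.restrictFunctor U.ι).map S.ι) i
    fun A ↦ by
      ext s
      refine (S.range_ι_app (U.ι ''ᵁ A) (show Γ(F, U.ι ''ᵁ A) from s)).trans ?_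
      rw [heq _ (hle A)]
      exact subOfOpen_obj U G i A _
  exact ⟨S.toModules, S.ι, e, inferInstance, hq, hft, he⟩

end Groth.Agent.QC
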