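import Groth.Agent.QC.FTIdeal

/-!
Finite type quasi-coherent submodules through finitely many sections over opens.
-/

universe u

open CategoryTheory CategoryTheory.Limits AlgebraicGeometry TopologicalSpace Opposite

set_option backward.isDefEq.respectTransparency false

noncomputable section

namespace Groth.Agent.QC

variable {X : Scheme.{u}} {F : X.Modules}

/-- The sum of two subsheaves. -/
def Sub.sup (S T : Sub F) : Sub F where
  obj O :=
    { carrier := {s | ∀ x ∈ O, ∃ (W : X.Opens) (h : W ≤ O), x ∈ W ∧ res F h s ∈ S.obj W ⊔ T.obj W}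
      zero_mem' := fun x hx ↦ ⟨O, le_rfl, hx, by rw [map_zero]; exact Submodule.zero_mem _⟩
      add_mem' := fun {a b} ha hb x hx ↦ by
        obtain ⟨W, h, hxW, ha⟩ := ha x hx
        obtain ⟨V, g, hxV, hb⟩ := hb x hx
        refine ⟨W ⊓ V, inf_le_left.trans h, ⟨hxW, hxV⟩, ?_⟩
        obtain ⟨a₁, ha₁, a₂, ha₂, hae⟩ := Submodule.mem_sup.mp ha
        obtain ⟨b₁, hb₁, b₂, hb₂, hbe⟩ := Submodule.mem_sup.mp hb
        refine Submodule.mem_sup.mpr ⟨res F inf_le_left a₁ + res F inf_le_right b₁,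
          add_mem (S.res_mem _ ha₁) (S.res_mem _ hb₁), res F inf_le_left a₂ + res F inf_le_right b₂,
          add_mem (T.res_mem _ ha₂) (T.res_mem _ hb₂), ?_⟩
        rw [map_add, ← res_res F (inf_le_left : W ⊓ V ≤ W) h a,
          ← res_res F (inf_le_right : W ⊓ V ≤ V) g b, ← hae, ← hbe, map_add, map_add]
        abel
      smul_mem' := fun c a ha x hx ↦ by
        obtain ⟨W, h, hxW, ha⟩ := ha x hx
        exact ⟨W, h, hxW, by rw [res_smul]; exact Submodule.smul_mem _ _ ha⟩ }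
  res_mem := fun {O' O} hO {s} hs x hx ↦ by
    obtain ⟨W, h, hxW, hs⟩ := hs x (hO hx)
    refine ⟨W ⊓ O', inf_le_right, ⟨hxW, hx⟩, ?_⟩
    obtain ⟨a, ha, b, hb, he⟩ := Submodule.mem_sup.mp hs
    refine Submodule.mem_sup.mpr ⟨res F inf_le_left a, S.res_mem _ ha, res F inf_le_left b,
      T.res_mem _ hb, ?_⟩
    rw [← map_add, he, res_res, res_res]
  local' := fun {O} s hs x hx ↦ by
    obtain ⟨W, h, hxW, hs⟩ := hs x hx
    obtain ⟨W', g, hxW', hs'⟩ := hs x hxW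
    rw [res_res] at hs'
    exact ⟨W', g.trans h, hxW', hs'⟩

lemma Sub.mem_sup_left (S T : Sub F) {O : X.Opens} {s : Γ(F, O)} (h : s ∈ S.obj O) :
    s ∈ (S.sup T).obj O :=
  fun _ hx ↦ ⟨O, le_rfl, hx, Submodule.mem_sup_left (by rwa [res_self])⟩

lemma Sub.mem_sup_right (S T : Sub F) {O : X.Opens} {s : Γ(F, O)} (h : s ∈ T.obj O) :
    s ∈ (S.sup T).obj O :=
  fun _ hx ↦ ⟨O, le_rfl, hx, Submodule.mem_sup_right (by rwa [res_self])⟩

lemma genSub_mono {D : X.Opens} {T T' : Set Γ(F, D)} (h : T ⊆ T') (O : X.Opens) :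
    (genSub T).obj O ≤ (genSub T').obj O := fun _ hs x hx hxD ↦ by
  obtain ⟨W, g, g', hxW, hs⟩ := hs x hx hxD
  exact ⟨W, g, g', hxW, Submodule.span_mono (Set.image_mono h) hs⟩

lemma LocFinGen.sup [hF : F.IsQuasicoherent] {S T : Sub F} {W : X.Opens} (hS : LocFinGen S W)
    (hT : LocFinGen T W) : LocFinGen (S.sup T) W := by
  classical
  intro x hx
  obtain ⟨D₁, hD₁, hx₁, hle₁, T₁, h₁⟩ := hS x hx
  obtain ⟨D₂, -, hx₂, -, T₂, h₂⟩ := hT x hx
  obtain ⟨f, hf, hxf⟩ := hD₁.exists_basicOpen_le ⟨x, hx₂⟩ hx₁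
  let E := X.basicOpen f
  have hE₁ : E ≤ D₁ := X.basicOpen_le f
  refine ⟨E, hD₁.basicOpen f, hxf, hE₁.trans hle₁,
    T₁.image (res F hE₁) ∪ T₂.image (res F hf), ⟨fun t ht ↦ ?_, fun O hO s hs ↦ ?_⟩⟩
  · rw [Finset.coe_union, Finset.coe_image, Finset.coe_image] at ht
    rcases ht with ⟨a, ha, rfl⟩ | ⟨a, ha, rfl⟩
    · exact S.mem_sup_left T (S.res_mem _ (h₁.mem a ha))
    · exact S.mem_sup_right T (T.res_mem _ (h₂.mem a ha))
  · refine (genSub _).local' s fun y hy ↦ ?_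
    obtain ⟨W', h, hyW', hs⟩ := hs y hy
    obtain ⟨a, ha, b, hb, he⟩ := Submodule.mem_sup.mp hs
    refine ⟨W', h, hyW', he ▸ Submodule.add_mem _ ?_ ?_⟩
    · refine genSub_mono ?_ W' ((h₁.mono hE₁).le W' (h.trans hO) ha)
      rw [Finset.coe_union, Finset.coe_image]
      exact Set.subset_union_left
    · refine genSub_mono ?_ W' ((h₂.mono hf).le W' (h.trans hO) hb)
      rw [Finset.coe_union, Finset.coe_image, Finset.coe_image]
      exact Set.subset_union_right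

/-- A finite type quasi-coherent submodule containing given finitely many sections over compact opens. -/
theorem exists_sub_containing [CompactSpace X] [QuasiSeparatedSpace X] [hF : F.IsQuasicoherent]
    {κ : Type*} (t : Finset κ) (V : κ → X.Opens) (hV : ∀ k, IsAffineOpen (V k))
    (T : ∀ k, Finset Γ(F, V k)) :
    ∃ S : Sub F, LocFinGen S ⊤ ∧ ∀ k ∈ t, ∀ s ∈ T k, s ∈ S.obj (V k) := by
  classical
  induction t using Finset.induction_on with
  | empty =>
    refine ⟨genSub (D := ⊤) (∅ : Set Γ(F, ⊤)), fun x hx ↦ ?_, by simp⟩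
    obtain ⟨D, hD, hxD⟩ := exists_affine_mem (X := X) x
    refine ⟨D, hD, hxD, le_top, ∅, ⟨by simp, fun O _ s hs ↦ ?_⟩⟩
    intro y hy hyD
    obtain ⟨W, g, g', hyW, hs⟩ := hs y hy trivial
    refine ⟨W ⊓ D, inf_le_left.trans g, inf_le_right, ⟨hyW, hyD⟩, ?_⟩
    have hs' := res_mem_span (F := F) (inf_le_left : W ⊓ D ≤ W) hs
    rw [res_res] at hs'
    simpa using hs'
  | insert k t _ ih =>
    obtain ⟨S, hS, hmem⟩ := ih
    obtain ⟨S', hS', hS'eq⟩ := exists_extend_qcqs (genSub (T k : Set Γ(F, V k))) (W := V k)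
      (fun x hx ↦ ⟨V k, hV k, hx, le_rfl, T k, ⟨fun s hs ↦ mem_genSub_of_mem hs, fun O _ ↦ le_rfl⟩⟩)
      (hV k).isCompact
    refine ⟨S.sup S', hS.sup hS', fun j hj s hs ↦ ?_⟩
    rcases Finset.mem_insert.mp hj with rfl | hj
    · exact S.mem_sup_right S' ((hS'eq _ le_rfl).ge (mem_genSub_of_mem hs))
    · exact S.mem_sup_left S' (hmem j hj s hs)

end Groth.Agent.QC
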