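import Groth.Agent.QC.IdealMod
import Groth.Agent.QC.PullbackTilde
import Groth.Prelude.Def_Omega2
import Mathlib.RingTheory.Kaehler.Basic
/-!
# The sheaf of differentials of a map of affine schemes
-/

universe u

open CategoryTheory CategoryTheory.Limits AlgebraicGeometry TopologicalSpace Opposite TensorProduct

set_option backward.isDefEq.respectTransparency false

noncomputable section

namespace Groth.Agent.QC

/-- A quasi-coherent submodule of the structure sheaf of an affine scheme is the tilde of an ideal. -/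
lemma nonempty_iso_tilde_ideal {B : CommRingCat.{u}} (N : (Spec B).Modules) (hN : Coh.IsQCoh N)
    (j : N ⟶ Coh.structureModule (Spec B)) [Mono j] (J : Ideal B)
    (h : ∀ s : Γ(Spec B, ⊤), s ∈ Set.range (j.app ⊤) ↔ (Scheme.ΓSpecIso B).hom s ∈ J) :
    Nonempty (N ≅ tilde (ModuleCat.of B J)) := by
  haveI : N.IsQuasicoherent := hN
  let G := (modulesSpecToSheaf.obj N).presheaf.obj (op ⊤)
  let c : Γ(N, ⊤) →+ B :=
    ((Scheme.ΓSpecIso B).hom.hom.toAddMonoidHom).comp (j.app ⊤).hom
  let l : G →ₗ[B] J :=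
    LinearMap.codRestrict J
      { toFun := fun a ↦ c a
        map_add' := fun a b ↦ map_add c a b
        map_smul' := fun r a ↦ by
          change (Scheme.ΓSpecIso B).hom (j.app ⊤ ((show B from r) • (show Γ(N, ⊤) from a))) = _
          rw [Scheme.Modules.smul_Spec_def, Scheme.Modules.Hom.app_smul]
          change (Scheme.ΓSpecIso B).hom ((show Γ(Spec B, ⊤) from _) * _) = _
          rw [map_mul]
          have h1 : (Spec B).presheaf.map (⊤ : (Spec B).Opens).leTop.op = 𝟙 _ :=
            (Spec B).presheaf.map_id _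
          rw [h1]
          change (Scheme.ΓSpecIso B).hom ((Scheme.ΓSpecIso B).inv r) * _ = r • c a
          rw [Iso.inv_hom_id_apply]
          rfl }
      fun a ↦ (h _).mp ⟨a, rfl⟩
  have hl : Function.Bijective l := by
    constructor
    · intro a b hab
      have h1 : c a = c b := congrArg Subtype.val hab
      exact app_injective_of_mono j ⊤ ((Scheme.ΓSpecIso B).commRingCatIsoToRingEquiv.injective h1)
    · intro y
      obtain ⟨a, ha⟩ := (h ((Scheme.ΓSpecIso B).inv y.1)).mpr (by rw [Iso.inv_hom_id_apply]; exact y.2)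
      refine ⟨a, Subtype.ext ?_⟩
      change (Scheme.ΓSpecIso B).hom (j.app ⊤ a) = _
      rw [ha, Iso.inv_hom_id_apply]
  exact ⟨(isoTildeΓ N).symm ≪≫ (tilde.functor B).mapIso (LinearEquiv.ofBijective l hl).toModuleIso⟩

/-- A section vanishes after `app` iff after `appLE` to the whole preimage. -/
lemma app_eq_zero_iff {X Y : Scheme.{u}} (f : X ⟶ Y) (W : Y.Opens) (V : X.Opens) (h : f ⁻¹ᵁ W = V)
    (t : Γ(Y, W)) : f.app W t = 0 ↔ f.appLE W V h.ge t = 0 := by
  subst h
  rw [Scheme.Hom.app_eq_appLE]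

variable (R A : Type u) [CommRing R] [CommRing A] [Algebra R A]

/-- The multiplication `A ⊗ A → A`. -/
def mulHom : CommRingCat.of (A ⊗[R] A) ⟶ CommRingCat.of A :=
  CommRingCat.ofHom (Algebra.TensorProduct.lmul' R : A ⊗[R] A →ₐ[R] A).toRingHom

/-- The diagonal ideal restricted to `Spec (A ⊗ A)`. -/
lemma nonempty_restrict_idealMod_diagonal :
    Nonempty ((ClSub.idealMod
      (pullback.diagonal (Spec.map (CommRingCat.ofHom (algebraMap R A)))).ker).restrict
        (pullbackSpecIso R A A).inv ≅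
      tilde (R := CommRingCat.of (A ⊗[R] A))
        (ModuleCat.of (A ⊗[R] A) (KaehlerDifferential.ideal R A))) := by
  set Δ := pullback.diagonal (Spec.map (CommRingCat.ofHom (algebraMap R A)))
  set g := (pullbackSpecIso R A A).inv
  have hΔ : Δ = Spec.map (mulHom R A) ≫ g := diagonal_SpecMap R A
  haveI : QuasiCompact Δ := by rw [hΔ]; infer_instance
  refine nonempty_iso_tilde_ideal _ (isQCoh_restrict g (isQCoh_idealMod _))
    ((Scheme.Modules.restrictFunctor g).map (ClSub.idealModι Δ.ker) ≫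
      (Scheme.Modules.restrictUnitIso g).hom) _ fun s ↦ ?_
  let W : (pullback (Spec.map (CommRingCat.ofHom (algebraMap R A)))
      (Spec.map (CommRingCat.ofHom (algebraMap R A)))).Opens := g ''ᵁ ⊤
  have hW : IsAffineOpen W := (isAffineOpen_top _).image_of_isOpenImmersion g
  set t := (g.appIso ⊤).inv s
  have h1 : s ∈ Set.range (((Scheme.Modules.restrictFunctor g).map (ClSub.idealModι Δ.ker) ≫
      (Scheme.Modules.restrictUnitIso g).hom).app ⊤) ↔
      t ∈ Set.range ((ClSub.idealModι Δ.ker).app W) := by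
    constructor
    · rintro ⟨a, rfl⟩
      refine ⟨a, ?_⟩
      change _ = (g.appIso ⊤).inv ((g.appIso ⊤).hom _)
      rw [Iso.hom_inv_id_apply]
      rfl
    · rintro ⟨a, ha⟩
      refine ⟨a, ?_⟩
      change (g.appIso ⊤).hom ((ClSub.idealModι Δ.ker).app W a) = s
      rw [ha]
      exact Iso.inv_hom_id_apply _ _
  rw [h1, mem_range_idealModι_affine Δ.ker ⟨W, hW⟩, Scheme.Hom.ker_apply, RingHom.mem_ker]
  change Δ.app W t = 0 ↔ _
  have hg : g ⁻¹ᵁ W = ⊤ := g.preimage_image_eq ⊤
  have hpre : Δ ⁻¹ᵁ W = ⊤ := by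
    rw [hΔ, Scheme.Hom.comp_preimage, hg, Scheme.Hom.preimage_top]
  rw [app_eq_zero_iff Δ W ⊤ hpre]
  have h2 : ∀ (Φ : Spec (CommRingCat.of A) ⟶ _) (_ : Φ = Spec.map (mulHom R A) ≫ g)
      (e : ⊤ ≤ Φ ⁻¹ᵁ W), Φ.appLE W ⊤ e t = (Spec.map (mulHom R A)).appTop s := by
    intro Φ hΦ e
    subst hΦ
    rw [← Scheme.Hom.appLE_comp_appLE (Spec.map (mulHom R A)) g W ⊤ ⊤ hg.ge le_top,
      ← Scheme.Hom.appIso_hom']
    change (Spec.map (mulHom R A)).appLE ⊤ ⊤ _ ((g.appIso ⊤).hom t) = _
    rw [Iso.inv_hom_id_apply]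
    change _ = (Spec.map (mulHom R A)).app ⊤ s
    rw [Scheme.Hom.app_eq_appLE]
    rfl
  rw [h2 Δ hΔ]
  change _ ↔ mulHom R A ((Scheme.ΓSpecIso _).hom s) = 0
  rw [← CommRingCat.comp_apply, ← Scheme.ΓSpecIso_naturality, CommRingCat.comp_apply]
  exact (map_eq_zero_iff _ (Scheme.ΓSpecIso _).commRingCatIsoToRingEquiv.injective).symm

/-- The two actions on `Ω` agree. -/
lemma smul_kaehler (b : A ⊗[R] A) (ω : Ω[A⁄R]) :
    b • ω = (Algebra.TensorProduct.lmul' R b : A) • ω := by
  obtain ⟨j, rfl⟩ := KaehlerDifferential.fromIdeal_surjective R A ω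
  rw [← IsScalarTower.algebraMap_smul (A ⊗[R] A) (Algebra.TensorProduct.lmul' R b : A)
    (KaehlerDifferential.fromIdeal R A j), ← sub_eq_zero, ← sub_smul, ← map_smul]
  refine (Ideal.toCotangent_eq_zero _ _).mpr ?_
  rw [pow_two]
  refine Ideal.mul_mem_mul ?_ j.2
  change Algebra.TensorProduct.lmul' R (b - _) = 0
  rw [map_sub, Algebra.TensorProduct.algebraMap_apply, Algebra.TensorProduct.lmul'_apply_tmul]
  simp

/-- `A ⊗_{A⊗A} I ≅ I/I²`. -/
lemma nonempty_extendScalars_iso_kaehler :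
    Nonempty ((ModuleCat.extendScalars.{u, u, u} (mulHom R A).hom).obj
      (ModuleCat.of (A ⊗[R] A) (KaehlerDifferential.ideal R A)) ≅ ModuleCat.of A (Ω[A⁄R])) := by
  classical
  let μ := (mulHom R A).hom
  let J' : ModuleCat.{u} (A ⊗[R] A) := ModuleCat.of (A ⊗[R] A) (KaehlerDifferential.ideal R A)
  let adj := ModuleCat.extendRestrictScalarsAdj.{u, u, u} μ
  let u' : J' ⟶ (ModuleCat.restrictScalars μ).obj (ModuleCat.of A (Ω[A⁄R])) :=
    ModuleCat.ofHom
      (Y := (ModuleCat.restrictScalars μ).obj (ModuleCat.of A (Ω[A⁄R])))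
      { toFun := fun j ↦ KaehlerDifferential.fromIdeal R A j
        map_add' := fun a b ↦ map_add _ a b
        map_smul' := fun b j ↦ (map_smul (KaehlerDifferential.fromIdeal R A) b j).trans
          (smul_kaehler R A b _) }
  let φ := (adj.homEquiv _ _).symm u'
  let η := adj.unit.app J'
  have hη : ∀ (r : A ⊗[R] A) (j : J'), η (r • j) = μ r • (show (ModuleCat.extendScalars μ).obj J' from η j) :=
    fun r j ↦ η.hom.map_smul r j
  have hker : KaehlerDifferential.ideal R A • (⊤ : Submodule (A ⊗[R] A) J') ≤ LinearMap.ker η.hom := by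
    refine Submodule.smul_le.mpr fun r hr n _ ↦ ?_
    rw [LinearMap.mem_ker]
    refine (hη r n).trans ?_
    rw [show μ r = 0 from hr]
    exact zero_smul A (show (ModuleCat.extendScalars μ).obj J' from η n)
  have hfac : ∀ i j : J', KaehlerDifferential.fromIdeal R A i = KaehlerDifferential.fromIdeal R A j →
      η i = η j := by
    intro i j h
    have h1 : i - j ∈ KaehlerDifferential.ideal R A • (⊤ : Submodule (A ⊗[R] A) J') :=
      (Submodule.Quotient.eq _).mp h
    have h2 : η.hom (i - j) = 0 := hker h1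
    rw [map_sub, sub_eq_zero] at h2
    exact h2
  let σ := Function.surjInv (KaehlerDifferential.fromIdeal_surjective R A)
  have hσ : ∀ ω, KaehlerDifferential.fromIdeal R A (σ ω) = ω := Function.surjInv_eq _
  let v : Ω[A⁄R] →ₗ[A] (ModuleCat.extendScalars μ).obj J' :=
    { toFun := fun ω ↦ η (σ ω)
      map_add' := fun a b ↦ by
        rw [hfac (σ (a + b)) (σ a + σ b) ((hσ _).trans (((map_add _ _ _).trans
          (congrArg₂ (· + ·) (hσ a) (hσ b))).symm))]
        exact map_add η.hom _ _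
      map_smul' := fun a ω ↦ by
        rw [hfac (σ (a • ω)) ((a ⊗ₜ[R] (1 : A)) • σ ω) ((hσ _).trans ((map_smul _ _ _).trans
          (((congrArg _ (hσ ω)).trans (smul_kaehler R A _ ω)).trans (by simp))).symm)]
        refine (hη _ _).trans ?_
        rw [show μ (a ⊗ₜ[R] (1 : A)) = a from
          (Algebra.TensorProduct.lmul'_apply_tmul (R := R) (S := A) a 1).trans (mul_one a)]
        rfl }
  have hφ : adj.homEquiv _ _ φ = u' := Equiv.apply_symm_apply _ _
  refine ⟨⟨φ, ModuleCat.ofHom v, ?_, ?_⟩⟩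
  · apply (adj.homEquiv J' _).injective
    rw [adj.homEquiv_naturality_right, hφ, adj.homEquiv_id]
    ext j
    exact hfac _ _ (hσ _)
  · refine ModuleCat.hom_ext (LinearMap.ext fun (ω : Ω[A⁄R]) ↦ ?_)
    change φ.hom (η (σ ω)) = ω
    have h := congr($hφ (σ ω))
    rw [Adjunction.homEquiv_unit] at h
    exact h.trans (hσ ω)

/-- `Ω_{Spec A / Spec R} ≅ (Ω_{A/R})~`. -/
theorem nonempty_omega_iso_tilde :
    Nonempty (Omega.sheaf (Spec.map (CommRingCat.ofHom (algebraMap R A))) ≅
      tilde (R := CommRingCat.of A) (ModuleCat.of A (Ω[A⁄R]))) := by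
  obtain ⟨e₁⟩ := nonempty_restrict_idealMod_diagonal R A
  obtain ⟨e₂⟩ := nonempty_extendScalars_iso_kaehler R A
  let f := Spec.map (CommRingCat.ofHom (algebraMap R A))
  let g := (pullbackSpecIso R A A).inv
  have hΔ : pullback.diagonal f = Spec.map (mulHom R A) ≫ g := diagonal_SpecMap R A
  exact ⟨(Scheme.Modules.pullbackCongr hΔ).app _ ≪≫
    (Scheme.Modules.pullbackComp (Spec.map (mulHom R A)) g).symm.app _ ≪≫
    (Scheme.Modules.pullback (Spec.map (mulHom R A))).mapIso
      ((Scheme.Modules.restrictFunctorIsoPullback g).symm.app _ ≪≫ e₁) ≪≫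
    (pullbackTildeIso (mulHom R A)).app _ ≪≫ (tilde.functor _).mapIso e₂⟩

end Groth.Agent.QC
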